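/-
Basic transfer-topic library: conjugation helpers, the p-part of an element, normal p-complements,
the p-residual.
-/
import Mathlib
import Cfsg.Prelude.Def_Transfer

namespace Cfsg.Lib.Transfer

open Subgroup

variable {G : Type*} [Group G] {p : ℕ}

theorem mem_map_conj {H : Subgroup G} {g x : G} :
    x ∈ H.map (MulAut.conj g).toMonoidHom ↔ g⁻¹ * x * g ∈ H := by
  constructor
  · rintro ⟨y, hy, rfl⟩
    simpa [MulAut.conj_apply, mul_assoc] using hy
  · intro h
    exact ⟨g⁻¹ * x * g, h, by simp [mul_assoc]⟩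

theorem map_conj_map_conj (H : Subgroup G) (a b : G) :
    (H.map (MulAut.conj b).toMonoidHom).map (MulAut.conj a).toMonoidHom =
      H.map (MulAut.conj (a * b)).toMonoidHom := by
  ext x
  simp only [mem_map_conj, mul_inv_rev, mul_assoc]

theorem map_conj_one (H : Subgroup G) : H.map (MulAut.conj (1 : G)).toMonoidHom = H := by
  ext x
  simp

theorem map_conj_eq_self_iff {H : Subgroup G} {g : G} :
    H.map (MulAut.conj g).toMonoidHom = H ↔ g ∈ normalizer (H : Set G) := by
  rw [Subgroup.mem_normalizer_iff, SetLike.ext_iff]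
  simp only [mem_map_conj]
  constructor
  · intro h x
    simpa [mul_assoc] using h (g * x * g⁻¹)
  · intro h x
    simpa [mul_assoc] using h (g⁻¹ * x * g)

theorem card_map_conj (H : Subgroup G) (g : G) :
    Nat.card ↥(H.map (MulAut.conj g).toMonoidHom) = Nat.card H :=
  Subgroup.card_map_of_injective (MulAut.conj g).injective

theorem sylow_smul_coe {p : ℕ} (g : G) (P : Sylow p G) :
    ((g • P : Sylow p G) : Subgroup G) = (P : Subgroup G).map (MulAut.conj g).toMonoidHom := by
  rw [Sylow.coe_subgroup_smul]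
  rfl

/-- An element of finite order is the product of a commuting `p`-element and `p'`-element. -/
theorem exists_pPart [Finite G] (p : ℕ) [hp : Fact p.Prime] (g : G) :
    ∃ a b : G, a ∈ zpowers g ∧ b ∈ zpowers g ∧ a * b = g ∧
      (∃ k, orderOf a = p ^ k) ∧ (orderOf b).Coprime p := by
  obtain ⟨k, m, hm, hn⟩ := Nat.exists_eq_pow_mul_and_not_dvd
    (orderOf_pos g).ne' p hp.out.ne_one
  have hcop : Nat.Coprime m (p ^ k) :=
    Nat.Coprime.pow_right k ((hp.out.coprime_iff_not_dvd.2 hm).symm)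
  obtain ⟨u, v, huv⟩ : ∃ u v : ℤ, (m : ℤ) * u + ((p ^ k : ℕ) : ℤ) * v = 1 := by
    refine ⟨Nat.gcdA m (p ^ k), Nat.gcdB m (p ^ k), ?_⟩
    rw [← Nat.gcd_eq_gcd_ab, hcop.gcd_eq_one, Nat.cast_one]
  refine ⟨g ^ ((m : ℤ) * u), g ^ (((p ^ k : ℕ) : ℤ) * v), zpow_mem (mem_zpowers g) _,
    zpow_mem (mem_zpowers g) _, ?_, ?_, ?_⟩
  · rw [← zpow_add, huv, zpow_one]
  · have h : (g ^ ((m : ℤ) * u)) ^ p ^ k = 1 := by
      rw [← zpow_natCast, ← zpow_mul, show (m : ℤ) * u * ((p ^ k : ℕ) : ℤ) =
        ((p ^ k * m : ℕ) : ℤ) * u by push_cast; ring, zpow_mul, zpow_natCast, ← hn,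
        pow_orderOf_eq_one, one_zpow]
    obtain ⟨i, -, hi⟩ := (Nat.dvd_prime_pow hp.out).1 (orderOf_dvd_of_pow_eq_one h)
    exact ⟨i, hi⟩
  · have h : (g ^ (((p ^ k : ℕ) : ℤ) * v)) ^ m = 1 := by
      rw [← zpow_natCast, ← zpow_mul, show ((p ^ k : ℕ) : ℤ) * v * (m : ℤ) =
        ((p ^ k * m : ℕ) : ℤ) * v by push_cast; ring, zpow_mul, zpow_natCast, ← hn,
        pow_orderOf_eq_one, one_zpow]
    exact Nat.Coprime.coprime_dvd_left (orderOf_dvd_of_pow_eq_one h)
      (hp.out.coprime_iff_not_dvd.2 hm).symm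

/-- A `p`-element of `G` lies in a subgroup of index prime to `p` ... only if normal. -/
theorem mem_of_isPGroup_quotient_of_coprime (N : Subgroup G) [N.Normal] [hp : Fact p.Prime]
    (h : IsPGroup p (G ⧸ N)) {x : G} (hx : (orderOf x).Coprime p) : x ∈ N := by
  rw [← QuotientGroup.eq_one_iff, ← orderOf_eq_one_iff]
  obtain ⟨k, hk⟩ := IsPGroup.iff_orderOf.1 h (x : G ⧸ N)
  refine Nat.eq_one_of_dvd_coprimes hx ?_ ?_ |>.trans rfl
  · exact orderOf_map_dvd (QuotientGroup.mk' N) x
  · rcases Nat.eq_zero_or_pos k with rfl | hk0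
    · rw [hk, pow_zero]; exact one_dvd _
    · exfalso
      have h1 : p ∣ orderOf x :=
        ((dvd_pow_self p hk0.ne').trans hk.symm.dvd).trans (orderOf_map_dvd (QuotientGroup.mk' N) x)
      exact (hp.out.coprime_iff_not_dvd.1 hx.symm) h1

theorem isPGroup_quotient_of_index [Finite G] (N : Subgroup G) [N.Normal] {k : ℕ}
    (h : N.index = p ^ k) : IsPGroup p (G ⧸ N) :=
  IsPGroup.of_card (by rwa [← N.index_eq_card])

/-! ### The p-residual -/

theorem mem_pResidual_of_coprime {x : G} (h : (orderOf x).Coprime p) : x ∈ Cfsg.pResidual p G :=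
  subset_closure h

theorem pResidual_map_le {H : Type*} [Group H] (f : G →* H) :
    (Cfsg.pResidual p G).map f ≤ Cfsg.pResidual p H := by
  rw [Cfsg.pResidual, MonoidHom.map_closure, closure_le]
  rintro _ ⟨x, hx, rfl⟩
  exact mem_pResidual_of_coprime (Nat.Coprime.coprime_dvd_left (orderOf_map_dvd f x) hx)

instance pResidual_characteristic : (Cfsg.pResidual p G).Characteristic :=
  characteristic_iff_map_le.2 fun φ => pResidual_map_le φ.toMonoidHom

instance pResidual_normal' : (Cfsg.pResidual p G).Normal :=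
  inferInstance

theorem pResidual_le [Fact p.Prime] {N : Subgroup G} [N.Normal] (h : IsPGroup p (G ⧸ N)) :
    Cfsg.pResidual p G ≤ N :=
  (closure_le N).2 fun _ hx => mem_of_isPGroup_quotient_of_coprime N h hx

theorem isPGroup_quotient_pResidual [Finite G] [Fact p.Prime] :
    IsPGroup p (G ⧸ Cfsg.pResidual p G) := by
  intro q
  obtain ⟨g, rfl⟩ := QuotientGroup.mk_surjective q
  obtain ⟨a, b, -, -, hab, ⟨k, hk⟩, hb⟩ := exists_pPart p g
  refine ⟨k, ?_⟩
  have hb' : (b : G ⧸ Cfsg.pResidual p G) = 1 :=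
    (QuotientGroup.eq_one_iff b).2 (mem_pResidual_of_coprime hb)
  rw [← hab, QuotientGroup.mk_mul, hb', mul_one, ← QuotientGroup.mk_pow, ← hk, pow_orderOf_eq_one,
    QuotientGroup.mk_one]

theorem exists_index_pResidual [Finite G] [Fact p.Prime] :
    ∃ k, (Cfsg.pResidual p G).index = p ^ k :=
  IsPGroup.iff_card.1 isPGroup_quotient_pResidual |>.imp fun k hk => by
    rw [Subgroup.index_eq_card]; exact hk

/-- A subgroup containing a Sylow `p`-subgroup joins a subgroup of `p`-power index to `⊤`. -/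
theorem sup_sylow_eq_top [Finite G] [hp : Fact p.Prime] {N : Subgroup G} {k : ℕ}
    (hN : N.index = p ^ k) (P : Sylow p G) : N ⊔ (P : Subgroup G) = ⊤ := by
  rw [← Subgroup.index_eq_one]
  have h1 : (N ⊔ (P : Subgroup G)).index ∣ p ^ k := hN ▸ index_dvd_of_le le_sup_left
  have h2 : (N ⊔ (P : Subgroup G)).index ∣ (P : Subgroup G).index := index_dvd_of_le le_sup_right
  exact Nat.eq_one_of_dvd_coprimes
    (Nat.Coprime.pow_left k (hp.out.coprime_iff_not_dvd.2 P.not_dvd_index)) h1 h2

theorem pResidual_sup_sylow [Finite G] [Fact p.Prime] (P : Sylow p G) :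
    Cfsg.pResidual p G ⊔ (P : Subgroup G) = ⊤ := by
  obtain ⟨k, hk⟩ := exists_index_pResidual (G := G) (p := p)
  exact sup_sylow_eq_top hk P

/-! ### Normal p-complements -/

theorem isComplement'_sylow_of_coprime_index [Finite G] [hp : Fact p.Prime] {N : Subgroup G}
    (hc : (Nat.card N).Coprime p) {k : ℕ} (hi : N.index = p ^ k) (P : Sylow p G) :
    N.IsComplement' (P : Subgroup G) := by
  have hG : Nat.card G = Nat.card N * p ^ k := by rw [← hi, N.card_mul_index]
  have hP : Nat.card P = p ^ k := by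
    rw [P.card_eq_multiplicity, hG, Nat.factorization_mul (Nat.card_pos.ne')
      (pow_ne_zero _ hp.out.ne_zero)]
    rw [Finsupp.add_apply, hp.out.factorization_pow, Finsupp.single_eq_same,
      Nat.factorization_eq_zero_of_not_dvd (hp.out.coprime_iff_not_dvd.1 hc.symm), zero_add]
  refine isComplement'_of_coprime (by rw [hP]; exact hG.symm) ?_
  rw [hP]
  exact hc.pow_right k

theorem complement_props [Finite G] [hp : Fact p.Prime] {N : Subgroup G} {P : Sylow p G}
    (h : N.IsComplement' (P : Subgroup G)) :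
    (Nat.card N).Coprime p ∧ ∃ k, N.index = p ^ k := by
  refine ⟨?_, ?_⟩
  · rw [← h.index_eq_card]
    exact (hp.out.coprime_iff_not_dvd.2 P.not_dvd_index).symm
  · obtain ⟨k, hk⟩ := P.2.exists_card_eq
    exact ⟨k, by rw [h.symm.index_eq_card, hk]⟩

theorem hasNormalPComplement_iff [Finite G] [Fact p.Prime] :
    Cfsg.HasNormalPComplement p G ↔
      ∃ N : Subgroup G, N.Normal ∧ (Nat.card N).Coprime p ∧ ∃ k, N.index = p ^ k := by
  constructor
  · rintro ⟨P, N, hN, hc⟩
    exact ⟨N, hN, complement_props hc⟩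
  · rintro ⟨N, hN, hc, k, hk⟩
    obtain ⟨P⟩ : Nonempty (Sylow p G) := inferInstance
    exact ⟨P, N, hN, isComplement'_sylow_of_coprime_index hc hk P⟩

theorem hasNormalPComplement_of_isComplement' {N : Subgroup G} [hN : N.Normal] {P : Sylow p G}
    (h : N.IsComplement' (P : Subgroup G)) : Cfsg.HasNormalPComplement p G :=
  ⟨P, N, hN, h⟩

theorem exists_complement_of_hasNormalPComplement [Finite G] [Fact p.Prime]
    (h : Cfsg.HasNormalPComplement p G) (P : Sylow p G) :
    ∃ N : Subgroup G, N.Normal ∧ N.IsComplement' (P : Subgroup G) := by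
  obtain ⟨N, hN, hc, k, hk⟩ := hasNormalPComplement_iff.1 h
  exact ⟨N, hN, isComplement'_sylow_of_coprime_index hc hk P⟩

theorem mem_iff_coprime_orderOf [Finite G] [Fact p.Prime] {N : Subgroup G} [N.Normal]
    (hc : (Nat.card N).Coprime p) {k : ℕ} (hi : N.index = p ^ k) (x : G) :
    x ∈ N ↔ (orderOf x).Coprime p := by
  refine ⟨fun hx => Nat.Coprime.coprime_dvd_left ?_ hc,
    fun hx => mem_of_isPGroup_quotient_of_coprime N (isPGroup_quotient_of_index N hi) hx⟩
  rw [← Subgroup.orderOf_mk x hx]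
  exact orderOf_dvd_natCard _

theorem eq_pResidual_of_complement [Finite G] [Fact p.Prime] {N : Subgroup G} [N.Normal]
    (hc : (Nat.card N).Coprime p) {k : ℕ} (hi : N.index = p ^ k) : N = Cfsg.pResidual p G :=
  le_antisymm (fun x hx => mem_pResidual_of_coprime ((mem_iff_coprime_orderOf hc hi x).1 hx))
    (pResidual_le (isPGroup_quotient_of_index N hi))

theorem hasNormalPComplement_iff_pResidual [Finite G] [Fact p.Prime] :
    Cfsg.HasNormalPComplement p G ↔ (Nat.card (Cfsg.pResidual p G)).Coprime p := by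
  rw [hasNormalPComplement_iff]
  constructor
  · rintro ⟨N, hN, hc, k, hk⟩
    rwa [← eq_pResidual_of_complement hc hk]
  · exact fun h => ⟨_, inferInstance, h, exists_index_pResidual⟩

/-- Normal `p`-complements pass to groups embedding in `G`. -/
theorem hasNormalPComplement_of_injective {H : Type*} [Group H] [Finite G] [hp : Fact p.Prime]
    (f : H →* G) (hf : Function.Injective f) (h : Cfsg.HasNormalPComplement p G) :
    Cfsg.HasNormalPComplement p H := by
  have : Finite H := Finite.of_injective f hf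
  obtain ⟨N, hN, hc, k, hk⟩ := hasNormalPComplement_iff.1 h
  refine hasNormalPComplement_iff.2 ⟨N.comap f, inferInstance, ?_, ?_⟩
  · refine Nat.Coprime.coprime_dvd_left ?_ hc
    rw [← Subgroup.card_map_of_injective hf]
    exact card_dvd_of_le (map_comap_le f N)
  · have : (N.comap f).index ∣ p ^ k := by
      rw [index_comap, ← hk]
      exact relIndex_dvd_index_of_normal _ _
    obtain ⟨i, -, hi⟩ := (Nat.dvd_prime_pow hp.out).1 this
    exact ⟨i, hi⟩

theorem hasNormalPComplement_subgroup [Finite G] [Fact p.Prime]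
    (h : Cfsg.HasNormalPComplement p G) (H : Subgroup G) : Cfsg.HasNormalPComplement p H :=
  hasNormalPComplement_of_injective H.subtype H.subtype_injective h

theorem hasNormalPComplement_of_surjective {H : Type*} [Group H] [Finite G] [hp : Fact p.Prime]
    (f : G →* H) (hf : Function.Surjective f) (h : Cfsg.HasNormalPComplement p G) :
    Cfsg.HasNormalPComplement p H := by
  have : Finite H := Finite.of_surjective f hf
  obtain ⟨N, hN, hc, k, hk⟩ := hasNormalPComplement_iff.1 h
  refine hasNormalPComplement_iff.2 ⟨N.map f, hN.map f hf, ?_, ?_⟩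
  · exact Nat.Coprime.coprime_dvd_left (card_map_dvd N f) hc
  · obtain ⟨i, -, hi⟩ := (Nat.dvd_prime_pow hp.out).1 (hk ▸ N.index_map_dvd hf)
    exact ⟨i, hi⟩

theorem hasNormalPComplement_congr {H : Type*} [Group H] [Finite G] [Fact p.Prime] (e : G ≃* H) :
    Cfsg.HasNormalPComplement p G ↔ Cfsg.HasNormalPComplement p H := by
  have : Finite H := Finite.of_equiv G e.toEquiv
  exact ⟨hasNormalPComplement_of_surjective e.toMonoidHom e.surjective,
    hasNormalPComplement_of_surjective e.symm.toMonoidHom e.symm.surjective⟩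

theorem hasNormalPComplement_of_isPGroup [Finite G] [Fact p.Prime] (h : IsPGroup p G) :
    Cfsg.HasNormalPComplement p G :=
  hasNormalPComplement_iff.2 ⟨⊥, inferInstance, by simp, by
    simpa [Subgroup.index_bot] using IsPGroup.iff_card.1 h⟩

theorem hasNormalPComplement_of_not_dvd [Finite G] [hp : Fact p.Prime] (h : ¬ p ∣ Nat.card G) :
    Cfsg.HasNormalPComplement p G :=
  hasNormalPComplement_iff.2 ⟨⊤, inferInstance,
    by simpa using (hp.out.coprime_iff_not_dvd.2 h).symm, 0, by simp⟩

end Cfsg.Lib.Transfer
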