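/-
Fusion in Sylow subgroups (Burnside, weakly closed subgroups) and the transfer to a quotient of a
Hall-type subgroup by a subgroup containing its focal subgroup.
-/
import Cfsg.Agent.Transfer.Basic

namespace Cfsg.Lib.Transfer

open Subgroup
open scoped commutatorElement

variable {G : Type*} [Group G] {p : ℕ}

/-- Two Sylow subgroups of `G` lying in a subgroup are conjugate there. -/
theorem exists_conj_mem_of_sylow_le [Finite G] [Fact p.Prime] (H : Subgroup G) (P Q : Sylow p G)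
    (hP : (P : Subgroup G) ≤ H) (hQ : (Q : Subgroup G) ≤ H) : ∃ c ∈ H, c • P = Q := by
  obtain ⟨c, hc⟩ := MulAction.exists_smul_eq H (P.subtype hP) (Q.subtype hQ)
  rw [Sylow.smul_subtype] at hc
  exact ⟨c, c.2, Sylow.subtype_injective hc⟩

theorem conj_image_eq_iff {g : G} {S T : Set G} :
    (fun y => g * y * g⁻¹) '' S = T ↔ ∀ x, x ∈ T ↔ g⁻¹ * x * g ∈ S := by
  have h : ∀ x, x ∈ (fun y => g * y * g⁻¹) '' S ↔ g⁻¹ * x * g ∈ S := by
    intro x
    constructor
    · rintro ⟨y, hy, rfl⟩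
      simpa [mul_assoc] using hy
    · exact fun hx => ⟨_, hx, by simp [mul_assoc]⟩
  rw [Set.ext_iff]
  exact forall_congr' fun x => by rw [h x]; exact Iff.comm

theorem conj_image_eq_self_iff {g : G} {S : Set G} :
    (fun y => g * y * g⁻¹) '' S = S ↔ g ∈ normalizer S := by
  rw [conj_image_eq_iff, Subgroup.mem_set_normalizer_iff]
  constructor
  · intro h x
    simpa [mul_assoc] using (h (g * x * g⁻¹)).symm
  · intro h x
    simpa [mul_assoc] using (h (g⁻¹ * x * g)).symm

/-- **Burnside's fusion lemma** for normal subsets of a Sylow subgroup. -/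
theorem burnside_fusion_set [Finite G] [Fact p.Prime] (P : Sylow p G) (X Y : Set G)
    (hX : (P : Subgroup G) ≤ normalizer X) (hY : (P : Subgroup G) ≤ normalizer Y) (g : G)
    (hg : (fun y => g * y * g⁻¹) '' X = Y) :
    ∃ n ∈ normalizer (P : Set G), (fun y => n * y * n⁻¹) '' X = Y := by
  rw [conj_image_eq_iff] at hg
  have hgP : ((g • P : Sylow p G) : Subgroup G) ≤ normalizer Y := by
    intro z hz
    rw [sylow_smul_coe, mem_map_conj] at hz
    have h1 := hX hz
    rw [Subgroup.mem_set_normalizer_iff] at h1 ⊢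
    intro x
    rw [hg x, hg (z * x * z⁻¹)]
    refine (h1 (g⁻¹ * x * g)).trans (iff_of_eq (congrArg (· ∈ X) ?_))
    group
  obtain ⟨c, hc, hcP⟩ := exists_conj_mem_of_sylow_le _ (g • P) P hgP hY
  refine ⟨c * g, Sylow.smul_eq_iff_mem_normalizer.1 (by rw [mul_smul, hcP]), ?_⟩
  rw [conj_image_eq_iff]
  intro x
  rw [Subgroup.mem_set_normalizer_iff] at hc
  have h1 := hc (c⁻¹ * x * c)
  rw [show c * (c⁻¹ * x * c) * c⁻¹ = x by group] at h1
  rw [← h1, hg (c⁻¹ * x * c)]
  simp [mul_assoc, mul_inv_rev]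

/-- Fusion in the centralizer of a weakly closed subgroup is controlled by its normalizer. -/
theorem weaklyClosed_fusion [Finite G] [Fact p.Prime] (P : Sylow p G) (Z : Subgroup G)
    (hW : Cfsg.IsWeaklyClosed Z (P : Subgroup G)) (x g : G)
    (hx : x ∈ centralizer (Z : Set G)) (hy : g * x * g⁻¹ ∈ centralizer (Z : Set G)) :
    ∃ n ∈ normalizer (Z : Set G), g * x * g⁻¹ = n * x * n⁻¹ := by
  set C : Subgroup G := centralizer ({g * x * g⁻¹} : Set G)
  have hZC : Z ≤ C := fun z hz => Subgroup.mem_centralizer_singleton_iff.2 (hy z hz)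
  have hgZC : Z.map (MulAut.conj g).toMonoidHom ≤ C := by
    rintro _ ⟨z, hz, rfl⟩
    refine Subgroup.mem_centralizer_singleton_iff.2 ?_
    have h := hx z hz
    simp only [MulEquiv.coe_toMonoidHom, MulAut.conj_apply]
    calc g * z * g⁻¹ * (g * x * g⁻¹) = g * (z * x) * g⁻¹ := by group
      _ = g * (x * z) * g⁻¹ := by rw [h]
      _ = g * x * g⁻¹ * (g * z * g⁻¹) := by group
  have hZp : IsPGroup p Z := P.2.to_le hW.1
  obtain ⟨R, hR⟩ := (hZp.comap_subtype (K := C)).exists_le_sylow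
  obtain ⟨S, hS⟩ := ((hZp.map (MulAut.conj g).toMonoidHom).comap_subtype (K := C)).exists_le_sylow
  obtain ⟨c, hc⟩ := MulAction.exists_smul_eq C S R
  obtain ⟨Q, hQ⟩ := ((R.2.map C.subtype)).exists_le_sylow
  obtain ⟨h, hh⟩ := MulAction.exists_smul_eq G Q P
  have hZQ : ∀ z ∈ Z, z ∈ (Q : Subgroup G) := fun z hz =>
    hQ ⟨⟨z, hZC hz⟩, hR (show (⟨z, hZC hz⟩ : C) ∈ Z.subgroupOf C from hz), rfl⟩
  have hcgZQ : ∀ z ∈ Z, ((c : G) * g) * z * ((c : G) * g)⁻¹ ∈ (Q : Subgroup G) := by
    intro z hz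
    have hm : g * z * g⁻¹ ∈ Z.map (MulAut.conj g).toMonoidHom := ⟨z, hz, rfl⟩
    have h1 : (⟨g * z * g⁻¹, hgZC hm⟩ : C) ∈ (S : Subgroup C) :=
      hS (show (⟨g * z * g⁻¹, hgZC hm⟩ : C) ∈
        (Z.map (MulAut.conj g).toMonoidHom).subgroupOf C from hm)
    have h2 : c * ⟨g * z * g⁻¹, hgZC hm⟩ * c⁻¹ ∈ (R : Subgroup C) := by
      rw [← hc, sylow_smul_coe, mem_map_conj]
      simpa [mul_assoc] using h1
    refine hQ ⟨_, h2, ?_⟩
    simp [mul_assoc]
  have key : ∀ d : G, (∀ z ∈ Z, d * z * d⁻¹ ∈ (Q : Subgroup G)) →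
      h * d ∈ normalizer (Z : Set G) := by
    intro d hd
    rw [← map_conj_eq_self_iff]
    refine hW.2 _ ?_
    rintro _ ⟨z, hz, rfl⟩
    rw [← hh, sylow_smul_coe]
    exact ⟨d * z * d⁻¹, hd z hz, by simp [mul_assoc]⟩
  refine ⟨(c : G) * g, ?_, ?_⟩
  · have := mul_mem (inv_mem (key 1 (by simpa using hZQ))) (key _ hcgZQ)
    simpa [mul_assoc] using this
  · have h1 := Subgroup.mem_centralizer_singleton_iff.1 c.2
    calc g * x * g⁻¹ = (c : G) * (g * x * g⁻¹) * (c : G)⁻¹ := by rw [h1]; group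
      _ = _ := by group

/-- If a subgroup controls fusion in `H`, the focal subgroup of `H` lies in its derived subgroup. -/
theorem focalSubgroup_le_of_control (H V : Subgroup G)
    (hc : ∀ x ∈ H, ∀ g : G, g * x * g⁻¹ ∈ H → ∃ v ∈ V, g * x * g⁻¹ = v * x * v⁻¹) :
    focalSubgroup H ≤ ⁅H, V⁆ := by
  rw [focalSubgroup_def, closure_le]
  rintro _ ⟨hmem, x, hx, u, rfl⟩
  rw [commutatorElement_def] at hmem ⊢
  have h1 : u * x⁻¹ * u⁻¹ ∈ H := by simpa [mul_assoc] using mul_mem (inv_mem hx) hmem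
  obtain ⟨v, hv, hv'⟩ := hc x⁻¹ (inv_mem hx) u h1
  have : x * u * x⁻¹ * u⁻¹ = ⁅x, v⁆ := by
    rw [commutatorElement_def, mul_assoc x u, mul_assoc x _ u⁻¹, hv']
    group
  rw [this]
  exact commutator_mem_commutator hx hv

/-- Transfer into `H / D` for `D` above the focal subgroup, when `[G : H]` is prime to `[H : D]`. -/
theorem exists_normal_inf_eq [Finite G] (H D : Subgroup G) (hDH : D ≤ H)
    (hfoc : focalSubgroup H ≤ D) (hcop : (H.index).Coprime (D.relIndex H)) :
    ∃ N : Subgroup G, N.Normal ∧ N ⊓ H = D ∧ N ⊔ H = ⊤ ∧ commutator G ≤ N ∧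
      N.index = D.relIndex H := by
  classical
  set D' : Subgroup H := D.subgroupOf H
  have hle : H.focalSubgroupOf ≤ D' := fun x hx => hfoc hx
  have : D'.Normal := by
    constructor
    intro n hn g
    have : g * n * g⁻¹ = ⁅g, n⁆ * n := by rw [commutatorElement_def]; group
    rw [this]
    exact mul_mem (hle (H.commutator_le_focalSubgroupOf
      (commutator_mem_commutator (mem_top g) (mem_top n)))) hn
  let f : G →* H ⧸ D' :=
    (QuotientGroup.map H.focalSubgroupOf D' (MonoidHom.id H) hle).comp (transferFocal H)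
  have hf : ∀ x : H, f x = (x : H ⧸ D') ^ H.index := by
    intro x
    simp only [f, MonoidHom.comp_apply, transferFocal_eq_pow, map_pow]
    rfl
  have hcard : Nat.card (H ⧸ D') = D.relIndex H := (D'.index_eq_card).symm
  have hinj : ∀ q : H ⧸ D', q ^ H.index = 1 → q = 1 := by
    intro q hq
    rw [← orderOf_eq_one_iff]
    exact Nat.eq_one_of_dvd_coprimes hcop (orderOf_dvd_of_pow_eq_one hq)
      (hcard ▸ orderOf_dvd_natCard q)
  have hsurj : ∀ q : H ⧸ D', ∃ x : H, f x = q := by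
    intro q
    obtain ⟨r, rfl⟩ := (powCoprime (n := H.index) (G := H ⧸ D')
      (by rw [hcard]; exact hcop.symm)).surjective q
    obtain ⟨x, rfl⟩ := QuotientGroup.mk_surjective r
    exact ⟨x, by rw [hf]; rfl⟩
  refine ⟨f.ker, inferInstance, ?_, ?_, ?_, ?_⟩
  · ext x
    rw [mem_inf, MonoidHom.mem_ker]
    constructor
    · rintro ⟨h1, hxH⟩
      rw [hf ⟨x, hxH⟩] at h1
      have := hinj _ h1
      rwa [QuotientGroup.eq_one_iff, mem_subgroupOf] at this
    · intro hx
      refine ⟨?_, hDH hx⟩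
      rw [hf ⟨x, hDH hx⟩, (QuotientGroup.eq_one_iff (⟨x, hDH hx⟩ : H)).2
        (show (⟨x, hDH hx⟩ : H) ∈ D' from hx), one_pow]
  · rw [eq_top_iff]
    intro g _
    obtain ⟨x, hx⟩ := hsurj (f g)
    have : g * (x : G)⁻¹ ∈ f.ker := by
      rw [MonoidHom.mem_ker, map_mul, map_inv, hx, mul_inv_cancel]
    simpa using mul_mem_sup this x.2
  · rw [commutator_def, commutator_le]
    intro a _ b _
    rw [MonoidHom.mem_ker, map_commutatorElement, commutatorElement_eq_one_iff_commute]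
    obtain ⟨x, hx⟩ := hsurj (f a)
    obtain ⟨y, hy⟩ := hsurj (f b)
    rw [← hx, ← hy, hf, hf]
    refine Commute.pow_pow ?_ _ _
    show (x : H ⧸ D') * y = y * x
    rw [← QuotientGroup.mk_mul, ← QuotientGroup.mk_mul, QuotientGroup.eq]
    refine hle (H.commutator_le_focalSubgroupOf ?_)
    have : (x * y)⁻¹ * (y * x) = ⁅y⁻¹, x⁻¹⁆ := by rw [commutatorElement_def]; group
    rw [this]
    exact commutator_mem_commutator (mem_top _) (mem_top _)
  · rw [Subgroup.index_ker, ← hcard]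
    have : f.range = ⊤ := MonoidHom.range_eq_top.2 fun q => by
      obtain ⟨x, hx⟩ := hsurj q
      exact ⟨x, hx⟩
    rw [this, Nat.card_congr Subgroup.topEquiv.toEquiv]

/-- The focal subgroup theorem for a subgroup whose index is prime to its abelianisation. -/
theorem commutator_inf_eq_focal [Finite G] (H : Subgroup G)
    (hcop : (H.index).Coprime ((focalSubgroup H).relIndex H)) :
    commutator G ⊓ H = focalSubgroup H := by
  obtain ⟨N, -, hN, -, hG, -⟩ := exists_normal_inf_eq H _ (focalSubgroup_le H) le_rfl hcop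
  exact le_antisymm (le_trans (inf_le_inf_right H hG) hN.le)
    (le_inf (focalSubgroup_le_commutator H) (focalSubgroup_le H))

end Cfsg.Lib.Transfer
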