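/-
Iterated focal subgroups and normal complements of Hall subgroups.
-/
import Cfsg.Agent.Transfer.Fusion

namespace Cfsg.Lib.Transfer

open Subgroup
open scoped commutatorElement

variable {G : Type*} [Group G]

theorem map_focalSubgroup_le {M : Subgroup G} (K : Subgroup M) :
    (focalSubgroup K).map M.subtype ≤ focalSubgroup (K.map M.subtype) := by
  rw [focalSubgroup_def, MonoidHom.map_closure, closure_le]
  rintro _ ⟨_, ⟨hK, x, hx, u, rfl⟩, rfl⟩
  exact subset_closure ⟨⟨_, hK, rfl⟩, x, ⟨x, hx, rfl⟩, u, map_commutatorElement M.subtype x u⟩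

theorem iterate_focal_le (H : Subgroup G) :
    ∀ n, (fun K : Subgroup G => focalSubgroup K)^[n] H ≤ H
  | 0 => le_rfl
  | n + 1 => by
    rw [Function.iterate_succ_apply']
    exact (focalSubgroup_le _).trans (iterate_focal_le H n)

theorem exists_iterate_focal_complement [Finite G] (H : Subgroup G)
    (hHall : (Nat.card H).Coprime H.index) (n : ℕ) :
    ∃ M : Subgroup G, (fun K : Subgroup G => focalSubgroup K)^[n] H ≤ M ∧
      Nat.card M = H.index * Nat.card ↥((fun K : Subgroup G => focalSubgroup K)^[n] H) ∧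
      ∀ x : G, (orderOf x).Coprime (Nat.card H) → x ∈ M := by
  induction n with
  | zero => exact ⟨⊤, le_top, by
      rw [Subgroup.card_top, Function.iterate_zero_apply, ← H.card_mul_index, mul_comm],
      fun x _ => mem_top x⟩
  | succ n ih =>
    obtain ⟨M, hKM, hcard, hM⟩ := ih
    rw [Function.iterate_succ_apply']
    have hKH := iterate_focal_le H n
    generalize (fun K : Subgroup G => focalSubgroup K)^[n] H = K at hKM hcard hKH ⊢
    set K' := K.subgroupOf M
    have hK' : Nat.card K' = Nat.card K := Nat.card_congr (subgroupOfEquivOfLe hKM).toEquiv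
    have hidx : K'.index = H.index := by
      have := K'.card_mul_index
      rw [hK', hcard, mul_comm H.index] at this
      exact Nat.eq_of_mul_eq_mul_left Nat.card_pos this
    set D := (focalSubgroup K).subgroupOf M
    have hD : Nat.card D = Nat.card ↥(focalSubgroup K) :=
      Nat.card_congr (subgroupOfEquivOfLe ((focalSubgroup_le K).trans hKM)).toEquiv
    have hrel : D.relIndex K' ∣ Nat.card H :=
      (relIndex_dvd_card _ _).trans (hK'.symm ▸ card_dvd_of_le hKH)
    have hfoc : focalSubgroup K' ≤ D := by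
      have := map_focalSubgroup_le K'
      rw [subgroupOf_map_subtype, inf_eq_left.2 hKM, map_le_iff_le_comap] at this
      exact this
    obtain ⟨N, hN, hNK, -, -, hNidx⟩ := exists_normal_inf_eq K' D
      (fun x hx => focalSubgroup_le K hx) hfoc
      (hidx ▸ (Nat.Coprime.coprime_dvd_left hrel hHall).symm)
    refine ⟨N.map M.subtype, ?_, ?_, ?_⟩
    · intro x hx
      have h1 : (⟨x, hKM (focalSubgroup_le K hx)⟩ : M) ∈ N ⊓ K' := by rw [hNK]; exact hx
      exact ⟨_, h1.1, rfl⟩
    · rw [Subgroup.card_subtype]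
      have h1 := N.card_mul_index
      have h2 := D.relIndex_mul_index (show D ≤ ⊤ from le_top)
      have hDK : D ≤ K' := fun x hx => focalSubgroup_le K hx
      have h3 : Nat.card D * D.relIndex K' = Nat.card K := by
        rw [← hK', ← Subgroup.card_mul_index (D.subgroupOf K'),
          Nat.card_congr (subgroupOfEquivOfLe hDK).toEquiv]
        rfl
      refine Nat.eq_of_mul_eq_mul_right (Nat.pos_of_ne_zero (?_ : D.relIndex K' ≠ 0)) ?_
      · exact (Subgroup.index_ne_zero_of_finite)
      · rw [mul_assoc, ← hD, h3, ← hcard, ← h1, hNidx]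
    · intro x hx
      refine ⟨⟨x, hM x hx⟩, ?_, rfl⟩
      show (⟨x, hM x hx⟩ : M) ∈ N
      rw [← QuotientGroup.eq_one_iff, ← orderOf_eq_one_iff]
      refine Nat.eq_one_of_dvd_coprimes hx
        ((orderOf_map_dvd (QuotientGroup.mk' N) _).trans (by rw [Subgroup.orderOf_mk]))
        ((_root_.orderOf_dvd_natCard _).trans ?_)
      rw [← N.index_eq_card, hNidx]
      exact hrel

theorem exists_complement_of_iterate_focal [Finite G] (H : Subgroup G)
    (hHall : (Nat.card H).Coprime H.index) (n : ℕ)
    (hfoc : (fun K : Subgroup G => focalSubgroup K)^[n] H = ⊥) :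
    ∃ N : Subgroup G, N.Normal ∧ N.IsComplement' H := by
  obtain ⟨N, -, hcard, hN⟩ := exists_iterate_focal_complement H hHall n
  rw [hfoc, Subgroup.card_bot, mul_one] at hcard
  refine ⟨N, ⟨fun x hx g => hN _ ?_⟩, isComplement'_of_coprime ?_ ?_⟩
  · have : orderOf (g * x * g⁻¹) = orderOf x := (MulAut.conj g).orderOf_eq x
    rw [this]
    refine Nat.Coprime.coprime_dvd_left ?_ (hcard ▸ hHall.symm)
    rw [← Subgroup.orderOf_mk x hx]
    exact _root_.orderOf_dvd_natCard _
  · rw [hcard, mul_comm, H.card_mul_index]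
  · rw [hcard]; exact hHall.symm

end Cfsg.Lib.Transfer
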