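/-
Frobenius' criterion for normal `p`-complements.
-/
import Cfsg.Agent.Transfer.Fusion
import Cfsg.Agent.Transfer.Iterate

namespace Cfsg.Lib.Transfer

open Subgroup
open scoped commutatorElement

variable {G : Type*} [Group G] [Finite G] {p : ℕ} [hp : Fact p.Prime]

theorem index_dvd_pow_of_coprime_mem {M : Subgroup G}
    (h : ∀ g : G, (orderOf g).Coprime p → g ∈ M) : ∃ k, M.index = p ^ k := by
  obtain ⟨k, hk⟩ := exists_index_pResidual (G := G) (p := p)
  have h1 : M.index ∣ p ^ k := hk ▸ index_dvd_of_le ((closure_le M).2 h)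
  obtain ⟨i, -, hi⟩ := (Nat.dvd_prime_pow hp.out).1 h1
  exact ⟨i, hi⟩

theorem lt_inf_normalizer_of_lt (P : Sylow p G) {D : Subgroup G} (h : D < (P : Subgroup G)) :
    D < (P : Subgroup G) ⊓ normalizer (D : Set G) := by
  haveI : Group.IsNilpotent (P : Subgroup G) := P.2.isNilpotent
  have hlt : D.subgroupOf (P : Subgroup G) < ⊤ := by
    rw [lt_top_iff_ne_top, Ne, subgroupOf_eq_top]
    exact h.not_ge
  have h2 := normalizerCondition_of_isNilpotent _ hlt
  refine lt_of_le_of_ne (le_inf h.le le_normalizer) fun heq => h2.not_ge ?_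
  intro x hx
  show (x : G) ∈ D
  rw [heq]
  refine ⟨x.2, Subgroup.mem_normalizer_iff.2 fun y => ?_⟩
  rw [Subgroup.mem_normalizer_iff] at hx
  constructor
  · intro hy
    exact (hx ⟨y, h.le hy⟩).1 hy
  · intro hy
    have hyP : y ∈ (P : Subgroup G) := by
      have := mul_mem (mul_mem (inv_mem x.2) (h.le hy)) x.2
      simpa [mul_assoc] using this
    exact (hx ⟨y, hyP⟩).2 hy

theorem mem_conj_sylow_iff {g x : G} {P : Sylow p G} :
    g * x * g⁻¹ ∈ ((g • P : Sylow p G) : Subgroup G) ↔ x ∈ (P : Subgroup G) := by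
  rw [sylow_smul_coe, mem_map_conj]
  simp [mul_assoc]

/-- The hypothesis of Frobenius' criterion. -/
theorem exists_centralizing_conj
    (h : ∀ Q : Subgroup G, IsPGroup p Q → ∀ g ∈ normalizer (Q : Set G),
      (orderOf g).Coprime p → g ∈ centralizer (Q : Set G))
    (P Q : Sylow p G) : ∃ c ∈ centralizer (((P : Subgroup G) ⊓ Q : Subgroup G) : Set G), c • P = Q := by
  suffices H : ∀ D : Subgroup G, ∀ P Q : Sylow p G, D = (P : Subgroup G) ⊓ Q →
      ∃ c ∈ centralizer (((P : Subgroup G) ⊓ Q : Subgroup G) : Set G), c • P = Q from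
    H _ P Q rfl
  intro D
  induction D using IsWellFounded.induction (· > · : Subgroup G → Subgroup G → Prop) with
  | ind D ih =>
  intro P Q hD
  by_cases hPQ : P = Q
  · exact ⟨1, one_mem _, by rw [hPQ, one_smul]⟩
  have hDP : D < (P : Subgroup G) :=
    hD ▸ inf_le_left.lt_of_ne fun heq => hPQ (Sylow.ext (P.3 Q.2 (inf_eq_left.1 heq)).symm)
  have hDQ : D < (Q : Subgroup G) :=
    hD ▸ inf_le_right.lt_of_ne fun heq => hPQ (Sylow.ext (Q.3 P.2 (inf_eq_right.1 heq)))
  set N := normalizer (D : Set G) with hN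
  have hDN : D ≤ N := le_normalizer
  obtain ⟨R, hR⟩ := ((P.2.to_le (inf_le_left : (P : Subgroup G) ⊓ N ≤ P)).comap_subtype
    (K := N)).exists_le_sylow
  obtain ⟨R', hR'⟩ := ((Q.2.to_le (inf_le_left : (Q : Subgroup G) ⊓ N ≤ Q)).comap_subtype
    (K := N)).exists_le_sylow
  obtain ⟨S, hS⟩ := (R.2.map N.subtype).exists_le_sylow
  obtain ⟨T, hT⟩ := (R'.2.map N.subtype).exists_le_sylow
  -- conjugate `R` to `R'` inside `C(D)`
  obtain ⟨n, hn⟩ := MulAction.exists_smul_eq N R R'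
  obtain ⟨k, hk⟩ := index_dvd_pow_of_coprime_mem (G := N) (p := p)
    (M := (centralizer (D : Set G)).subgroupOf N) fun g hg =>
      h D (P.2.to_le hDP.le) g g.2 (by rwa [Subgroup.orderOf_coe])
  haveI : ((centralizer (D : Set G)).subgroupOf N).Normal :=
    normal_subgroupOf_centralizer_normalizer _
  obtain ⟨c, hc, r, hr, hcr⟩ := mem_sup_of_normal_left.1
    ((sup_sylow_eq_top hk R).symm ▸ mem_top n : n ∈ (centralizer (D : Set G)).subgroupOf N ⊔ R)
  have hcR : c • R = R' := by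
    rw [← hn, ← hcr, mul_smul, Sylow.smul_eq_iff_mem_normalizer.2 (le_normalizer hr)]
  -- the three intersections are larger than `D`
  have hP1 : (P : Subgroup G) ⊓ N ≤ S := fun x hx =>
    hS ⟨⟨x, hx.2⟩, hR (show (⟨x, hx.2⟩ : N) ∈ ((P : Subgroup G) ⊓ N).subgroupOf N from hx), rfl⟩
  have hQ1 : (Q : Subgroup G) ⊓ N ≤ T := fun x hx =>
    hT ⟨⟨x, hx.2⟩, hR' (show (⟨x, hx.2⟩ : N) ∈ ((Q : Subgroup G) ⊓ N).subgroupOf N from hx), rfl⟩
  have hQ2 : (Q : Subgroup G) ⊓ N ≤ ((c : G) • S : Sylow p G) := by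
    intro x hx
    have h1 : (⟨x, hx.2⟩ : N) ∈ (R' : Subgroup N) :=
      hR' (show (⟨x, hx.2⟩ : N) ∈ ((Q : Subgroup G) ⊓ N).subgroupOf N from hx)
    rw [← hcR, sylow_smul_coe, mem_map_conj] at h1
    rw [sylow_smul_coe, mem_map_conj]
    exact hS ⟨_, h1, by simp⟩
  have big1 : D < (P : Subgroup G) ⊓ S :=
    (lt_inf_normalizer_of_lt P hDP).trans_le (le_inf inf_le_left hP1)
  have big2 : D < (Q : Subgroup G) ⊓ T :=
    (lt_inf_normalizer_of_lt Q hDQ).trans_le (le_inf inf_le_left hQ1)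
  have big3 : D < (((c : G) • S : Sylow p G) : Subgroup G) ⊓ T :=
    (lt_inf_normalizer_of_lt Q hDQ).trans_le (le_inf hQ2 hQ1)
  obtain ⟨a, ha, haP⟩ := ih _ big1 P S rfl
  obtain ⟨b, hb, hbQ⟩ := ih _ big2 Q T rfl
  obtain ⟨d, hd, hdS⟩ := ih _ big3 _ T rfl
  refine ⟨b⁻¹ * d * c * a, ?_, ?_⟩
  · rw [← hD]
    have anti : ∀ {K : Subgroup G}, D ≤ K → centralizer (K : Set G) ≤ centralizer (D : Set G) :=
      fun hK => centralizer_le hK
    refine mul_mem (mul_mem (mul_mem (inv_mem (anti big2.le hb)) (anti big3.le hd)) ?_)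
      (anti big1.le ha)
    exact hc
  · rw [mul_smul, mul_smul, mul_smul, haP, hdS, ← hbQ, inv_smul_smul]

theorem fusion_in_sylow
    (h : ∀ Q : Subgroup G, IsPGroup p Q → ∀ g ∈ normalizer (Q : Set G),
      (orderOf g).Coprime p → g ∈ centralizer (Q : Set G))
    (P : Sylow p G) (x g : G) (hx : x ∈ (P : Subgroup G)) (hy : g * x * g⁻¹ ∈ (P : Subgroup G)) :
    ∃ a ∈ (P : Subgroup G), g * x * g⁻¹ = a * x * a⁻¹ := by
  obtain ⟨e, he, heP⟩ := exists_centralizing_conj h (g • P) P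
  have hy' : g * x * g⁻¹ ∈ ((g • P : Sylow p G) : Subgroup G) ⊓ P :=
    ⟨mem_conj_sylow_iff.2 hx, hy⟩
  have hn : e * g ∈ normalizer (P : Set G) :=
    Sylow.smul_eq_iff_mem_normalizer.1 (by rw [mul_smul, heP])
  have hyn : g * x * g⁻¹ = (e * g) * x * (e * g)⁻¹ := by
    calc g * x * g⁻¹ = e * (g * x * g⁻¹) * e⁻¹ := by rw [← he _ hy']; group
      _ = _ := by group
  obtain ⟨a, b, ha, hb, hab, ⟨k, hk⟩, hcop⟩ := exists_pPart p (e * g)
  have hbC := h _ P.2 b ((zpowers_le.2 hn) hb) hcop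
  refine ⟨a, ?_, ?_⟩
  · have h1 := (IsPGroup.of_card (p := p) ((Nat.card_zpowers a).trans hk)).inf_normalizer_sylow P
    have h2 : a ∈ zpowers a ⊓ normalizer (P : Set G) := ⟨mem_zpowers a, (zpowers_le.2 hn) ha⟩
    rw [h1] at h2
    exact h2.2
  · rw [hyn, ← hab]
    calc a * b * x * (a * b)⁻¹ = a * (b * x * b⁻¹) * a⁻¹ := by group
      _ = _ := by rw [← hbC x hx]; group

theorem iterate_focal_le_lowerCentralSeries (P : Subgroup G)
    (hc : ∀ x ∈ P, ∀ g : G, g * x * g⁻¹ ∈ P → ∃ v ∈ P, g * x * g⁻¹ = v * x * v⁻¹) :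
    ∀ n, (fun K : Subgroup G => focalSubgroup K)^[n] P ≤ P.lowerCentralSeries n
  | 0 => le_rfl
  | n + 1 => by
    rw [Function.iterate_succ_apply', Subgroup.lowerCentralSeries_succ]
    refine le_trans ?_ (commutator_mono (iterate_focal_le_lowerCentralSeries P hc n) le_rfl)
    exact focalSubgroup_le_of_control _ _ fun x hx g hg =>
      hc x (iterate_focal_le P n hx) g (iterate_focal_le P n hg)

/-- A nilpotent Hall subgroup controlling its own fusion has a normal complement. -/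
theorem exists_complement_of_fusion (H : Subgroup G) (hH : Group.IsNilpotent H)
    (hHall : (Nat.card H).Coprime H.index)
    (hc : ∀ x ∈ H, ∀ g : G, g * x * g⁻¹ ∈ H → ∃ v ∈ H, g * x * g⁻¹ = v * x * v⁻¹) :
    ∃ N : Subgroup G, N.Normal ∧ N.IsComplement' H := by
  obtain ⟨n, hn⟩ := (Subgroup.isNilpotent_iff_lowerCentralSeries H).1 hH
  exact exists_complement_of_iterate_focal H hHall n
    (le_bot_iff.1 ((iterate_focal_le_lowerCentralSeries H hc n).trans hn.le))

/-- **Frobenius' normal p-complement theorem.** -/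
theorem hasNormalPComplement_of_frobenius
    (h : ∀ Q : Subgroup G, IsPGroup p Q → ∀ g ∈ normalizer (Q : Set G),
      (orderOf g).Coprime p → g ∈ centralizer (Q : Set G)) :
    Cfsg.HasNormalPComplement p G := by
  obtain ⟨P⟩ : Nonempty (Sylow p G) := inferInstance
  obtain ⟨N, hN, hc⟩ := exists_complement_of_fusion (P : Subgroup G) P.2.isNilpotent
    P.card_coprime_index (fun x hx g hg => fusion_in_sylow h P x g hx hg)
  exact ⟨P, N, hN, hc⟩

/-- A `p'`-element normalising a `p`-subgroup centralises it if there is a normal p-complement. -/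
theorem centralize_of_hasNormalPComplement (hG : Cfsg.HasNormalPComplement p G) (Q : Subgroup G)
    (hQ : IsPGroup p Q) (g : G) (hg : g ∈ normalizer (Q : Set G)) (hcop : (orderOf g).Coprime p) :
    g ∈ centralizer (Q : Set G) := by
  obtain ⟨N, hN, hc, k, hk⟩ := hasNormalPComplement_iff.1 hG
  haveI := hN
  have hgN : g ∈ N := (mem_iff_coprime_orderOf hc hk g).2 hcop
  intro x hx
  have h1 : ⁅x, g⁆ ∈ N ⊓ Q := by
    rw [commutatorElement_def]
    refine Subgroup.mem_inf.2 ⟨mul_mem (hN.conj_mem g hgN x) (inv_mem hgN), ?_⟩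
    rw [mul_assoc x g, mul_assoc x]
    exact mul_mem hx ((Subgroup.mem_normalizer_iff.1 hg _).1 (inv_mem hx))
  have h2 : (orderOf ⁅x, g⁆).Coprime p := (mem_iff_coprime_orderOf hc hk _).1 h1.1
  obtain ⟨i, hi⟩ := IsPGroup.iff_orderOf.1 hQ ⟨_, h1.2⟩
  rw [Subgroup.orderOf_mk] at hi
  have h3 : orderOf ⁅x, g⁆ = 1 :=
    Nat.eq_one_of_dvd_coprimes (h2.pow_right i) dvd_rfl hi.dvd
  rw [orderOf_eq_one_iff, commutatorElement_eq_one_iff_mul_comm] at h3
  exact h3

theorem hasNormalPComplement_of_normalizers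
    (h : ∀ Q : Subgroup G, IsPGroup p Q → Q ≠ ⊥ →
      Cfsg.HasNormalPComplement p (normalizer (Q : Set G))) :
    Cfsg.HasNormalPComplement p G := by
  refine hasNormalPComplement_of_frobenius fun Q hQ g hg hcop => ?_
  by_cases hQ1 : Q = ⊥
  · subst hQ1
    intro x hx
    rw [SetLike.mem_coe, mem_bot] at hx
    simp [hx]
  have := centralize_of_hasNormalPComplement (h Q hQ hQ1) (Q.subgroupOf (normalizer (Q : Set G)))
    hQ.comap_subtype ⟨g, hg⟩ ?_ (by rwa [Subgroup.orderOf_mk])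
  · intro x hx
    exact congrArg Subtype.val (this ⟨x, le_normalizer hx⟩ hx)
  · rw [Subgroup.mem_normalizer_iff]
    intro y
    exact Subgroup.mem_normalizer_iff.1 hg y

end Cfsg.Lib.Transfer
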