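/-
Consequences of controlled fusion: focal subgroups, abelian and cyclic Sylow subgroups.
-/
import Cfsg.Agent.Transfer.Fusion

namespace Cfsg.Lib.Transfer

open Subgroup
open scoped commutatorElement

variable {G : Type*} [Group G] {p : ℕ}

theorem abelian_sylow_fusion [Finite G] [Fact p.Prime] (P : Sylow p G)
    (hP : IsMulCommutative (P : Subgroup G)) (x g : G) (hx : x ∈ (P : Subgroup G))
    (hy : g * x * g⁻¹ ∈ (P : Subgroup G)) :
    ∃ n ∈ normalizer (P : Set G), g * x * g⁻¹ = n * x * n⁻¹ := by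
  have : IsMulCommutative P := hP
  obtain ⟨n, hn, h⟩ := P.conj_eq_normalizer_conj_of_mem x g⁻¹ hx (by rw [inv_inv]; exact hy)
  exact ⟨n⁻¹, inv_mem hn, by simpa using h⟩

theorem pResidual_inf_le_focal [Finite G] [hp : Fact p.Prime] (P : Sylow p G) :
    Cfsg.pResidual p G ⊓ (P : Subgroup G) ≤ focalSubgroup (P : Subgroup G) := by
  have hd : (focalSubgroup (P : Subgroup G)).relIndex P ∣ Nat.card P := relIndex_dvd_card ..
  obtain ⟨k, hk⟩ := P.2.exists_card_eq
  rw [hk] at hd
  obtain ⟨i, -, hi⟩ := (Nat.dvd_prime_pow hp.out).1 hd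
  obtain ⟨N, hN, hNP, -, -, hidx⟩ := exists_normal_inf_eq (P : Subgroup G) _
    (focalSubgroup_le _) le_rfl
    (hi ▸ Nat.Coprime.pow_right i (hp.out.coprime_iff_not_dvd.2 P.not_dvd_index).symm)
  haveI := hN
  exact le_trans (inf_le_inf_right _ (pResidual_le (isPGroup_quotient_of_index N (hidx.trans hi))))
    hNP.le

/-- With an abelian Sylow subgroup, `G/O^p(G)` is abelian. -/
theorem commutator_le_pResidual_of_abelian [Finite G] [Fact p.Prime] (P : Sylow p G)
    (hP : IsMulCommutative (P : Subgroup G)) : commutator G ≤ Cfsg.pResidual p G := by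
  have key : ∀ g : G, ∃ x ∈ (P : Subgroup G), (g : G ⧸ Cfsg.pResidual p G) = x := by
    intro g
    have hg : g ∈ Cfsg.pResidual p G ⊔ (P : Subgroup G) := by simp [pResidual_sup_sylow P]
    obtain ⟨y, hy, z, hz, rfl⟩ := Subgroup.mem_sup_of_normal_left.1 hg
    exact ⟨z, hz, by rw [QuotientGroup.mk_mul, (QuotientGroup.eq_one_iff y).2 hy, one_mul]⟩
  rw [commutator_def, commutator_le]
  intro a _ b _
  obtain ⟨x, hx, hx'⟩ := key a
  obtain ⟨y, hy, hy'⟩ := key b
  rw [← QuotientGroup.eq_one_iff]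
  have h : (⁅a, b⁆ : G) = a * b * a⁻¹ * b⁻¹ := commutatorElement_def a b
  rw [h]
  simp only [QuotientGroup.mk_mul, QuotientGroup.mk_inv, hx', hy']
  rw [← QuotientGroup.mk_mul, ← QuotientGroup.mk_inv, ← QuotientGroup.mk_mul,
    ← QuotientGroup.mk_inv, ← QuotientGroup.mk_mul]
  have : x * y * x⁻¹ * y⁻¹ = 1 := by
    have := congrArg Subtype.val (hP.is_comm.comm (⟨x, hx⟩ : (P : Subgroup G)) ⟨y, hy⟩)
    simp only [Subgroup.coe_mul] at this
    rw [this]; group
  rw [this, QuotientGroup.mk_one]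

theorem pResidual_inf_eq_commutator_inf [Finite G] [Fact p.Prime] (P : Sylow p G)
    (hP : IsMulCommutative (P : Subgroup G)) :
    Cfsg.pResidual p G ⊓ (P : Subgroup G) = commutator G ⊓ (P : Subgroup G) :=
  le_antisymm
    (le_inf ((pResidual_inf_le_focal P).trans (focalSubgroup_le_commutator _)) inf_le_right)
    (inf_le_inf_right _ (commutator_le_pResidual_of_abelian P hP))

theorem focal_eq_commutator_normalizer [Finite G] [Fact p.Prime] (P : Sylow p G)
    (hP : IsMulCommutative (P : Subgroup G)) :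
    focalSubgroup (P : Subgroup G) = ⁅(P : Subgroup G), normalizer (P : Set G)⁆ := by
  refine le_antisymm (focalSubgroup_le_of_control _ _ fun x hx g hg =>
    abelian_sylow_fusion P hP x g hx hg) ?_
  rw [commutator_le]
  intro x hx n hn
  refine subset_closure ⟨?_, x, hx, n, rfl⟩
  rw [commutatorElement_def, mul_assoc x n, mul_assoc x]
  exact mul_mem hx ((mem_normalizer_iff.1 hn _).1 (inv_mem hx))

/-- A `p'`-element normalising a cyclic `p`-group `P` centralises it or `⁅P, ·⁆` is everything. -/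
theorem centralize_of_cyclic [Finite G] [hp : Fact p.Prime] (P : Subgroup G) (hPp : IsPGroup p P)
    [IsCyclic P] (b : G) (hbN : b ∈ normalizer (P : Set G)) (hb : (orderOf b).Coprime p)
    (D : Subgroup G) (hD : D < P) (hcomm : ∀ x ∈ P, ⁅x, b⁆ ∈ D) :
    b ∈ centralizer (P : Set G) := by
  obtain ⟨a, ha⟩ := IsCyclic.exists_generator (α := P)
  have hgen : ∀ x ∈ P, ∃ i : ℤ, (a : G) ^ i = x := fun x hx => by
    obtain ⟨i, hi⟩ := Subgroup.mem_zpowers_iff.1 (ha ⟨x, hx⟩)
    exact ⟨i, by simpa using congrArg Subtype.val hi⟩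
  obtain ⟨k, hk⟩ := hgen (b * a * b⁻¹) ((mem_normalizer_iff.1 hbN _).1 a.2)
  obtain ⟨n, hn⟩ := IsPGroup.iff_orderOf.1 hPp a
  rw [← Subgroup.orderOf_coe] at hn
  -- `k ≡ 1 mod p`
  have hk1 : (p : ℤ) ∣ k - 1 := by
    by_contra hndvd
    have hcop : IsCoprime (k - 1) ((p ^ n : ℕ) : ℤ) := by
      push_cast
      exact ((Nat.prime_iff_prime_int.1 hp.out).coprime_iff_not_dvd.2 hndvd).symm.pow_right
    obtain ⟨u, v, huv⟩ := hcop
    have h1 : (a : G) ^ (k - 1) ∈ D := by
      have h2 := inv_mem (hcomm a a.2)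
      rw [commutatorElement_def] at h2
      rwa [show ((a : G) * b * (a : G)⁻¹ * b⁻¹)⁻¹ = b * a * b⁻¹ * (a : G)⁻¹ by group, ← hk,
        ← zpow_sub_one] at h2
    have h3 : (a : G) ∈ D := by
      have h4 : (a : G) ^ ((p ^ n : ℕ) : ℤ) = 1 := by
        rw [zpow_natCast, ← hn, pow_orderOf_eq_one]
      have := zpow_mem h1 u
      rwa [← zpow_mul, mul_comm, show u * (k - 1) = 1 + ((p ^ n : ℕ) : ℤ) * (-v) by
        linarith, zpow_add, zpow_one, zpow_mul, h4, one_zpow, mul_one] at this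
    refine hD.not_ge fun x hx => ?_
    obtain ⟨i, rfl⟩ := hgen x hx
    exact zpow_mem h3 i
  -- iterate
  have hpow : ∀ j : ℕ, b ^ j * (a : G) * (b ^ j)⁻¹ = (a : G) ^ (k ^ j) := by
    intro j
    induction j with
    | zero => simp
    | succ j ih =>
      have : b ^ (j + 1) * (a : G) * (b ^ (j + 1))⁻¹ = b * (b ^ j * a * (b ^ j)⁻¹) * b⁻¹ := by
        rw [pow_succ']; group
      rw [this, ih, show b * (a : G) ^ (k ^ j) * b⁻¹ = (b * a * b⁻¹) ^ (k ^ j) from
        (conj_zpow).symm, ← hk, ← zpow_mul]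
      ring_nf
  have hm := hpow (orderOf b)
  rw [pow_orderOf_eq_one] at hm
  simp only [one_mul, inv_one, mul_one] at hm
  have h5 : ((p ^ n : ℕ) : ℤ) ∣ k ^ orderOf b - 1 := by
    rw [← hn, orderOf_dvd_iff_zpow_eq_one, zpow_sub_one, ← hm, mul_inv_cancel]
  have h6 : ((p ^ n : ℕ) : ℤ) ∣ k - 1 := by
    rw [← mul_geom_sum] at h5
    refine IsCoprime.dvd_of_dvd_mul_right ?_ h5
    push_cast
    refine IsCoprime.pow_left ((Nat.prime_iff_prime_int.1 hp.out).coprime_iff_not_dvd.2 ?_)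
    intro hdvd
    have h7 : ((k : ZMod p)) = 1 := by
      have := (ZMod.intCast_zmod_eq_zero_iff_dvd (k - 1) p).2 hk1
      rwa [Int.cast_sub, Int.cast_one, sub_eq_zero] at this
    have h8 := (ZMod.intCast_zmod_eq_zero_iff_dvd _ p).2 hdvd
    rw [Int.cast_sum] at h8
    simp only [Int.cast_pow, h7, one_pow, Finset.sum_const, Finset.card_range, nsmul_eq_mul,
      mul_one, ZMod.natCast_eq_zero_iff] at h8
    exact hp.out.coprime_iff_not_dvd.1 hb.symm h8
  have hba : b * (a : G) * b⁻¹ = a := by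
    rw [← hk]
    have : (a : G) ^ (k - 1) = 1 := by
      rw [← orderOf_dvd_iff_zpow_eq_one, hn]; exact h6
    rwa [zpow_sub_one, mul_inv_eq_one] at this
  intro x hx
  obtain ⟨i, rfl⟩ := hgen x hx
  exact ((Commute.zpow_left (show Commute (a : G) b from (mul_inv_eq_iff_eq_mul.1 hba).symm)) i).eq

theorem centralizer_of_normalizer_cyclic [Finite G] [hp : Fact p.Prime] (P : Sylow p G)
    [IsCyclic (P : Subgroup G)] (D : Subgroup G) (hD : D < (P : Subgroup G))
    (hcomm : ⁅(P : Subgroup G), normalizer (P : Set G)⁆ ≤ D) :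
    normalizer (P : Set G) ≤ centralizer (P : Set G) := by
  intro g hg
  obtain ⟨a, b, ha, hb, rfl, ⟨k, hk⟩, hcop⟩ := exists_pPart p g
  have hga : a ∈ normalizer (P : Set G) := (Subgroup.zpowers_le.2 hg) ha
  have hgb : b ∈ normalizer (P : Set G) := (Subgroup.zpowers_le.2 hg) hb
  refine mul_mem ?_ (centralize_of_cyclic _ P.2 b hgb hcop D hD fun x hx =>
    hcomm (commutator_mem_commutator hx hgb))
  have haP : a ∈ (P : Subgroup G) := by
    have h := (IsPGroup.of_card ((Nat.card_zpowers a).trans hk)).inf_normalizer_sylow P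
    have : a ∈ zpowers a ⊓ normalizer (P : Set G) := ⟨mem_zpowers a, hga⟩
    rw [h] at this
    exact this.2
  intro y hy
  have := congrArg Subtype.val
    (IsCyclic.commGroup.mul_comm (⟨y, hy⟩ : (P : Subgroup G)) ⟨a, haP⟩)
  simpa using this

end Cfsg.Lib.Transfer
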