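/-
Powers by indices: in a finite nilpotent group `y ^ [F : K] ∈ K`; characterisation of the Fitting
subgroup by this property.
-/
import Cfsg.Agent.Transfer.Basic
import Cfsg.Agent.Components.Cores

namespace Cfsg.Lib.Transfer

open Subgroup

/-- `|F : F ⊓ H| = |HF : H|` for normal `F`. -/
theorem relIndex_eq_relIndex_sup_of_normal {G : Type*} [Group G] [Finite G] (H F : Subgroup G)
    [F.Normal] : H.relIndex F = H.relIndex (H ⊔ F) := by
  have a := relIndex_mul_relIndex ⊥ (H ⊓ F) F bot_le inf_le_right
  have b := relIndex_mul_relIndex ⊥ (H ⊓ F) H bot_le inf_le_left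
  have c := relIndex_mul_relIndex ⊥ H (H ⊔ F) bot_le le_sup_left
  have d := relIndex_mul_relIndex ⊥ F (H ⊔ F) bot_le le_sup_right
  simp only [relIndex_bot_left, inf_relIndex_right] at a b c d
  rw [inf_relIndex_left] at b
  rw [relIndex_sup_right, ← a, ← c, ← b] at d
  apply Nat.eq_of_mul_eq_mul_left (Nat.mul_pos (Nat.card_pos (α := ↥(H ⊓ F)))
    (Nat.pos_of_ne_zero (show F.relIndex H ≠ 0 from Subgroup.index_ne_zero_of_finite)))
  rw [← d]
  ring

theorem pow_index_mem_of_nilpotent {F : Type*} [Group F] [Finite F] [Group.IsNilpotent F]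
    (K : Subgroup F) (y : F) : y ^ K.index ∈ K := by
  induction K using IsWellFounded.induction (· > · : Subgroup F → Subgroup F → Prop) with
  | ind K ih =>
    by_cases hK : K = ⊤
    · subst hK
      exact mem_top _
    have hlt : K < normalizer (K : Set F) :=
      normalizerCondition_of_isNilpotent K (lt_top_iff_ne_top.2 hK)
    have h1 := ih _ hlt
    have h2 := (K.subgroupOf (normalizer (K : Set F))).pow_index_mem ⟨_, h1⟩
    rw [mem_subgroupOf, Subgroup.coe_pow, ← pow_mul] at h2
    have hidx := K.relIndex_mul_index hlt.le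
    rw [mul_comm] at hidx
    rw [← hidx]
    exact h2

variable {G : Type*} [Group G] [Finite G]

theorem mem_fitting_iff_pow_index (x : G) :
    x ∈ Cfsg.fittingSubgroup G ↔ ∀ H : Subgroup G, x ^ H.index ∈ H := by
  constructor
  · intro hx H
    have hn : (Cfsg.fittingSubgroup G).Normal := Subgroup.sSup_normal _ (fun _ h => h.1)
    haveI : Group.IsNilpotent (Cfsg.fittingSubgroup G) := Cfsg.Lib.Components.isNilpotent_fitting
    have h1 := pow_index_mem_of_nilpotent (H.subgroupOf (Cfsg.fittingSubgroup G)) ⟨x, hx⟩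
    rw [mem_subgroupOf, Subgroup.coe_pow] at h1
    obtain ⟨c, hc⟩ : H.relIndex (Cfsg.fittingSubgroup G) ∣ H.index := by
      rw [relIndex_eq_relIndex_sup_of_normal H (Cfsg.fittingSubgroup G)]
      exact Dvd.intro _ (relIndex_mul_index le_sup_left)
    rw [hc, pow_mul]
    exact pow_mem h1 c
  intro h
  induction hn : orderOf x using Nat.strong_induction_on generalizing x with
  | _ n ih =>
    subst hn
    by_cases h1 : orderOf x = 1
    · rw [orderOf_eq_one_iff.1 h1]
      exact one_mem _
    obtain ⟨p, hp, hdvd⟩ := Nat.exists_prime_and_dvd h1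
    haveI := Fact.mk hp
    obtain ⟨a, b, ha, hb, hab, ⟨k, hk⟩, hcop⟩ := exists_pPart p x
    have hpow : ∀ y ∈ zpowers x, ∀ H : Subgroup G, y ^ H.index ∈ H := by
      rintro _ ⟨i, rfl⟩ H
      show (x ^ i) ^ H.index ∈ H
      rw [← zpow_natCast, ← zpow_mul, mul_comm, zpow_mul, zpow_natCast]
      exact zpow_mem (h H) i
    rw [← hab]
    refine mul_mem ?_ ?_
    · have hall : ∀ P : Sylow p G, a ∈ (P : Subgroup G) := by
        intro P
        have h2 := hpow a ha (P : Subgroup G)
        have hc : (orderOf a).Coprime (P : Subgroup G).index := by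
          rw [hk]
          exact Nat.Coprime.pow_left k (hp.coprime_iff_not_dvd.2 P.not_dvd_index)
        obtain ⟨m, hm⟩ := exists_pow_eq_self_of_coprime hc.symm
        rw [← hm]
        exact pow_mem h2 m
      have hcore : Subgroup.normalClosure {a} ≤ Cfsg.fittingSubgroup G := by
        have hP : ∀ P : Sylow p G, Subgroup.normalClosure {a} ≤ (P : Subgroup G) := by
          intro P
          refine (Subgroup.closure_le _).2 fun y hy => ?_
          obtain ⟨z, hz, hzy⟩ := Group.mem_conjugatesOfSet_iff.1 hy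
          rw [Set.mem_singleton_iff] at hz
          subst hz
          obtain ⟨g, rfl⟩ := isConj_iff.1 hzy
          show g * z * g⁻¹ ∈ (P : Subgroup G)
          have h3 := hall (g⁻¹ • P)
          rw [show (z ∈ ((g⁻¹ • P : Sylow p G) : Subgroup G)) ↔ g * z * g⁻¹ ∈ (P : Subgroup G) by
            rw [sylow_smul_coe, mem_map_conj, inv_inv]] at h3
          exact h3
        obtain ⟨P⟩ : Nonempty (Sylow p G) := inferInstance
        exact Cfsg.Lib.Components.le_fitting (IsPGroup.isNilpotent (P.2.to_le (hP P)))
      exact hcore (Subgroup.subset_normalClosure (Set.mem_singleton a))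
    · refine ih _ (lt_of_le_of_ne (Nat.le_of_dvd (orderOf_pos x) ?_) ?_) b (hpow b hb) rfl
      · exact orderOf_dvd_of_mem_zpowers hb
      · intro he
        rw [he] at hcop
        exact (hp.coprime_iff_not_dvd.1 hcop.symm) hdvd

end Cfsg.Lib.Transfer
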