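/-
If every `p`-element of `G` has class size prime to `p` and `N`, `G ⧸ N` have abelian Sylow
`p`-subgroups then so does `G`.
-/
import Cfsg.Agent.Transfer.Control
import Cfsg.Agent.Transfer.FittingPower

namespace Cfsg.Lib.Transfer

open Subgroup

variable {G : Type*} [Group G] [Finite G] {p : ℕ} [hp : Fact p.Prime]

theorem not_dvd_index_centralizer_subgroup (N : Subgroup G) [N.Normal] (x : N)
    (h : ¬ p ∣ (centralizer ({(x : G)} : Set G)).index) :
    ¬ p ∣ (centralizer ({x} : Set N)).index := by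
  have he : centralizer ({x} : Set N) = (centralizer ({(x : G)} : Set G)).subgroupOf N := by
    ext y
    rw [mem_subgroupOf, mem_centralizer_singleton_iff, mem_centralizer_singleton_iff, Subtype.ext_iff]
    rfl
  rw [he]
  refine fun hd => h (hd.trans ?_)
  show (centralizer ({(x : G)} : Set G)).relIndex N ∣ _
  rw [relIndex_eq_relIndex_sup_of_normal _ N]
  exact Dvd.intro _ (relIndex_mul_index le_sup_left)

theorem exists_pElement_lift (N : Subgroup G) [N.Normal] {q : G ⧸ N}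
    (hq : ∃ k, orderOf q = p ^ k) :
    ∃ a : G, (a : G ⧸ N) = q ∧ ∃ k, orderOf a = p ^ k := by
  obtain ⟨x, rfl⟩ := QuotientGroup.mk_surjective q
  obtain ⟨a, b, -, hb, hab, hk, hcop⟩ := exists_pPart p x
  refine ⟨a, ?_, hk⟩
  obtain ⟨k, hk'⟩ := hq
  have hbx : (b : G ⧸ N) = 1 := by
    rw [← orderOf_eq_one_iff]
    obtain ⟨i, rfl⟩ := hb
    refine Nat.eq_one_of_dvd_coprimes (hcop.pow_right k) (orderOf_map_dvd (QuotientGroup.mk' N) _) ?_
    show orderOf ((x ^ i : G) : G ⧸ N) ∣ p ^ k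
    rw [QuotientGroup.mk_zpow, ← hk']
    exact orderOf_dvd_of_mem_zpowers ⟨i, rfl⟩
  rw [← hab, QuotientGroup.mk_mul, hbx, mul_one]

theorem not_dvd_index_centralizer_quotient (N : Subgroup G) [N.Normal] (a : G)
    (h : ¬ p ∣ (centralizer ({a} : Set G)).index) :
    ¬ p ∣ (centralizer ({(a : G ⧸ N)} : Set (G ⧸ N))).index := by
  refine fun hd => h (hd.trans ((index_dvd_of_le ?_).trans
    ((centralizer ({a} : Set G)).index_map_dvd (QuotientGroup.mk'_surjective N))))
  rintro _ ⟨y, hy, rfl⟩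
  rw [mem_centralizer_singleton_iff]
  show (y : G ⧸ N) * a = a * y
  rw [← QuotientGroup.mk_mul, ← QuotientGroup.mk_mul, mem_centralizer_singleton_iff.1 hy]

/-- A Sylow subgroup of `G` inside the centraliser of an element whose class has size prime to `p`. -/
theorem exists_sylow_le_centralizer (x : G) (h : ¬ p ∣ (centralizer ({x} : Set G)).index) :
    ∃ Q : Sylow p G, (Q : Subgroup G) ≤ centralizer ({x} : Set G) := by
  obtain ⟨R⟩ : Nonempty (Sylow p (centralizer ({x} : Set G))) := inferInstance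
  have hidx : ¬ p ∣ ((R : Subgroup (centralizer ({x} : Set G))).map
      (centralizer ({x} : Set G)).subtype).index := by
    rw [index_map_subtype]
    exact hp.out.not_dvd_mul R.not_dvd_index h
  exact ⟨(R.2.map _).toSylow hidx, map_subtype_le _⟩

/-- The intersection of a Sylow subgroup with a normal subgroup, as a Sylow subgroup of the latter. -/
theorem exists_sylow_subgroupOf (P : Sylow p G) (N : Subgroup G) [N.Normal] :
    ∃ A : Sylow p N, (A : Subgroup N) = (P : Subgroup G).subgroupOf N := by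
  have h : IsPGroup p ((P : Subgroup G).subgroupOf N) := P.2.comap_subtype
  have hidx : ¬ p ∣ ((P : Subgroup G).subgroupOf N).index := by
    show ¬ p ∣ (P : Subgroup G).relIndex N
    rw [relIndex_eq_relIndex_sup_of_normal _ N]
    exact fun hd => P.not_dvd_index (hd.trans (Dvd.intro _ (relIndex_mul_index le_sup_left)))
  exact ⟨h.toSylow hidx, rfl⟩

theorem commute_inf_of_centralizing_sylow (N : Subgroup G) [N.Normal] (P Q : Sylow p G) (x : G)
    (hxP : x ∈ (P : Subgroup G)) (hxQ : (Q : Subgroup G) ≤ centralizer ({x} : Set G))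
    (hN : ∀ A : Sylow p N, IsMulCommutative A) (y : G) (hyP : y ∈ (P : Subgroup G)) (hyN : y ∈ N) :
    y * x = x * y := by
  classical
  have hxk : IsPGroup p (zpowers x) := P.2.to_le (zpowers_le.2 hxP)
  have hxQ' : x ∈ (Q : Subgroup G) := by
    have hxC : x ∈ centralizer ((Q : Subgroup G) : Set G) :=
      fun z hz => mem_centralizer_singleton_iff.1 (hxQ hz)
    have h1 : IsPGroup p ↥((Q : Subgroup G) ⊔ zpowers x) :=
      Q.2.to_sup_of_normal_left' hxk (zpowers_le.2 (Subgroup.centralizer_le_normalizer _ hxC))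
    have h2 : (Q : Subgroup G) ⊔ zpowers x = Q := Q.3 h1 le_sup_left
    exact h2 ▸ (le_sup_right : zpowers x ≤ _) (mem_zpowers x)
  set L := N ⊔ zpowers x with hL
  have hxL : x ∈ L := (le_sup_right : zpowers x ≤ L) (mem_zpowers x)
  have key : ∀ R : Sylow p G, x ∈ (R : Subgroup G) →
      ∃ T : Sylow p L, ∀ t : L, t ∈ (T : Subgroup L) →
        (t : G) ∈ ((R : Subgroup G) ⊓ N) ⊔ zpowers x ∧ ((R : Subgroup G).subgroupOf L) ≤ T := by
    intro R hR
    obtain ⟨T, hT⟩ := (R.2.comap_subtype (K := L)).exists_le_sylow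
    obtain ⟨S, hS⟩ := exists_sylow_subgroupOf R N
    refine ⟨T, fun t ht => ⟨?_, hT⟩⟩
    obtain ⟨n, hn, z, hz, hnz⟩ := mem_sup_of_normal_left.1 t.2
    have hnL : n ∈ L := (le_sup_left : N ≤ L) hn
    have hzL : z ∈ L := (le_sup_right : zpowers x ≤ L) hz
    have hzT : (⟨z, hzL⟩ : L) ∈ (T : Subgroup L) := hT (show z ∈ (R : Subgroup G) from
      zpowers_le.2 hR hz)
    have hnT : (⟨n, hnL⟩ : L) ∈ (T : Subgroup L) := by
      have := mul_mem ht (inv_mem hzT)
      convert this using 1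
      exact Subtype.ext (by simp [← hnz])
    refine hnz ▸ mul_mem_sup ⟨?_, hn⟩ hz
    set T' : Subgroup N := ((T : Subgroup L).map L.subtype).subgroupOf N
    have hle : (S : Subgroup N) ≤ T' := by
      rw [hS]
      intro s hs
      exact ⟨⟨s, (le_sup_left : N ≤ L) s.2⟩, hT hs, rfl⟩
    have heq : T' = S := S.3 ((T.2.map L.subtype).comap_subtype) hle
    have hmem : (⟨n, hn⟩ : N) ∈ T' := ⟨_, hnT, rfl⟩
    rw [heq, hS] at hmem
    exact hmem
  obtain ⟨T, hT⟩ := key P hxP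
  obtain ⟨U, hU⟩ := key Q hxQ'
  have hB : ∀ b : G, b ∈ ((Q : Subgroup G) ⊓ N) ⊔ zpowers x →
      ∀ c : G, c ∈ ((Q : Subgroup G) ⊓ N) ⊔ zpowers x → b * c = c * b := by
    obtain ⟨S, hS⟩ := exists_sylow_subgroupOf Q N
    have hab : ((Q : Subgroup G) ⊓ N) ⊔ zpowers x ≤
        centralizer ((((Q : Subgroup G) ⊓ N) ⊔ zpowers x : Subgroup G) : Set G) := by
      have h2 : zpowers x ≤ centralizer (((Q : Subgroup G) ⊓ N : Subgroup G) : Set G) := by
        rw [zpowers_le]
        intro b hb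
        exact mem_centralizer_singleton_iff.1 (hxQ hb.1)
      have h3 : (Q : Subgroup G) ⊓ N ≤ centralizer (((Q : Subgroup G) ⊓ N : Subgroup G) : Set G) := by
        intro b hb c hc
        have hb' : (⟨b, hb.2⟩ : N) ∈ (S : Subgroup N) := by rw [hS]; exact hb.1
        have hc' : (⟨c, hc.2⟩ : N) ∈ (S : Subgroup N) := by rw [hS]; exact hc.1
        exact congrArg (fun w : (S : Subgroup N) => ((w : N) : G))
          ((hN S).is_comm.comm ⟨_, hc'⟩ ⟨_, hb'⟩)
      refine sup_le ?_ ?_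
      · rw [le_centralizer_iff]
        exact sup_le h3 h2
      · rw [le_centralizer_iff]
        exact sup_le (le_centralizer_iff.1 h2) (zpowers x).le_centralizer
    exact fun b hb c hc => hab hc b hb
  have hU' : ∀ a b : (U : Subgroup L), a * b = b * a := fun a b =>
    Subtype.ext (Subtype.ext (hB _ (hU _ a.2).1 _ (hU _ b.2).1))
  have hy' : (⟨y, (le_sup_left : N ≤ L) hyN⟩ : L) ∈ (T : Subgroup L) := by
    refine (hT 1 (one_mem _)).2 ?_
    exact hyP
  have hx' : (⟨x, hxL⟩ : L) ∈ (T : Subgroup L) := (hT 1 (one_mem _)).2 hxP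
  have h := (Sylow.equiv T U).injective.eq_iff.1
    ((map_mul (Sylow.equiv T U) ⟨_, hy'⟩ ⟨_, hx'⟩).trans
      ((hU' _ _).trans (map_mul (Sylow.equiv T U) ⟨_, hx'⟩ ⟨_, hy'⟩).symm))
  exact congrArg (fun w : (T : Subgroup L) => ((w : L) : G)) h

theorem isMulCommutative_of_normal_abelian_sylow (N : Subgroup G) [N.Normal] (P : Sylow p G)
    (h : ∀ x : G, (∃ k : ℕ, orderOf x = p ^ k) → ¬ p ∣ (centralizer ({x} : Set G)).index)
    (hN : ∀ A : Sylow p N, IsMulCommutative A)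
    (hQ : ∀ A : Sylow p (G ⧸ N), IsMulCommutative A) : IsMulCommutative (P : Subgroup G) := by
  have hC : ∀ x ∈ (P : Subgroup G), ∃ Q : Sylow p G, (Q : Subgroup G) ≤ centralizer ({x} : Set G) := by
    intro x hx
    refine exists_sylow_le_centralizer x (h x ?_)
    obtain ⟨k, hk⟩ := IsPGroup.iff_orderOf.1 P.2 ⟨x, hx⟩
    exact ⟨k, by rw [← hk, Subgroup.orderOf_mk]⟩
  have hA : ∀ y, y ∈ (P : Subgroup G) → y ∈ N → y ∈ centralizer ((P : Subgroup G) : Set G) := by
    intro y hy hyN x hx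
    obtain ⟨Q, hQx⟩ := hC x hx
    exact (commute_inf_of_centralizing_sylow N P Q x hx hQx hN y hy hyN).symm
  refine ⟨⟨fun a b => Subtype.ext (?_ : (a : G) * b = b * a)⟩⟩
  suffices hcen : ∀ x ∈ (P : Subgroup G), x ∈ centralizer ((P : Subgroup G) : Set G) from
    (hcen a a.2 b b.2).symm
  intro x hx
  obtain ⟨Q, hQx⟩ := hC x hx
  obtain ⟨g, hg⟩ := MulAction.exists_smul_eq G Q P
  set z := g * x * g⁻¹
  have hzC : z ∈ centralizer ((P : Subgroup G) : Set G) := by
    intro w hw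
    rw [← hg, sylow_smul_coe] at hw
    obtain ⟨v, hv, rfl⟩ := hw
    have h1 := mem_centralizer_singleton_iff.1 (hQx hv)
    show g * v * g⁻¹ * (g * x * g⁻¹) = g * x * g⁻¹ * (g * v * g⁻¹)
    calc g * v * g⁻¹ * (g * x * g⁻¹) = g * (v * x) * g⁻¹ := by group
      _ = g * (x * v) * g⁻¹ := by rw [h1]
      _ = _ := by group
  have hzP : z ∈ (P : Subgroup G) := by
    have h1 : IsPGroup p ↥((P : Subgroup G) ⊔ zpowers z) := by
      refine P.2.to_sup_of_normal_left' ?_
        (zpowers_le.2 (Subgroup.centralizer_le_normalizer _ hzC))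
      have h2 : IsPGroup p (zpowers x) := P.2.to_le (zpowers_le.2 hx)
      have h3 := h2.map (MulAut.conj g).toMonoidHom
      rwa [MonoidHom.map_zpowers] at h3
    have h2 : (P : Subgroup G) ⊔ zpowers z = P := P.3 h1 le_sup_left
    exact h2 ▸ (le_sup_right : zpowers z ≤ _) (mem_zpowers z)
  set Pbar : Sylow p (G ⧸ N) := P.mapSurjective (QuotientGroup.mk'_surjective N)
  have hcoe : (Pbar : Subgroup (G ⧸ N)) = (P : Subgroup G).map (QuotientGroup.mk' N) := rfl
  obtain ⟨nb, hnb, hconj⟩ := abelian_sylow_fusion Pbar (hQ Pbar) (x : G ⧸ N) (g : G ⧸ N)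
    (hcoe ▸ ⟨x, hx, rfl⟩) (hcoe ▸ ⟨z, hzP, rfl⟩)
  obtain ⟨n, rfl⟩ := QuotientGroup.mk_surjective nb
  set M := ((P : Subgroup G).map (QuotientGroup.mk' N)).comap (QuotientGroup.mk' N)
  have hPM : (P : Subgroup G) ≤ M := le_comap_map _ _
  have hnM : ((n • P : Sylow p G) : Subgroup G) ≤ M := by
    rw [sylow_smul_coe]
    rintro _ ⟨w, hw, rfl⟩
    show (QuotientGroup.mk' N) (n * w * n⁻¹) ∈ (P : Subgroup G).map (QuotientGroup.mk' N)
    rw [map_mul, map_mul, map_inv, ← hcoe]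
    exact (Subgroup.mem_normalizer_iff.1 hnb _).1 (hcoe ▸ ⟨w, hw, rfl⟩)
  obtain ⟨c, hc, hcP⟩ := exists_conj_mem_of_sylow_le M (n • P) P hnM hPM
  have hm : c * n ∈ normalizer (P : Set G) :=
    Sylow.smul_eq_iff_mem_normalizer.1 (by rw [mul_smul, hcP])
  have hyP : c * n * x * (c * n)⁻¹ ∈ (P : Subgroup G) :=
    (Subgroup.mem_normalizer_iff.1 hm x).1 hx
  have hyz : z⁻¹ * (c * n * x * (c * n)⁻¹) ∈ N := by
    rw [← QuotientGroup.eq_one_iff, QuotientGroup.mk_mul, QuotientGroup.mk_inv, inv_mul_eq_one]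
    have hcomm : (c : G ⧸ N) * z = z * c :=
      congrArg Subtype.val ((hQ Pbar).is_comm.comm (⟨c, hcoe.symm ▸ hc⟩ : (Pbar : Subgroup (G ⧸ N)))
        ⟨z, hcoe.symm ▸ ⟨z, hzP, rfl⟩⟩)
    simp only [z, QuotientGroup.mk_mul, QuotientGroup.mk_inv] at hcomm ⊢
    rw [hconj] at hcomm ⊢
    calc (n : G ⧸ N) * x * (n : G ⧸ N)⁻¹
        = (c : G ⧸ N) * ((n : G ⧸ N) * x * (n : G ⧸ N)⁻¹) * (c : G ⧸ N)⁻¹ := by
          rw [hcomm]; group
      _ = _ := by group
  have hy : c * n * x * (c * n)⁻¹ ∈ centralizer ((P : Subgroup G) : Set G) := by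
    have := mul_mem hzC (hA _ (mul_mem (inv_mem hzP) hyP) hyz)
    rwa [← mul_assoc, mul_inv_cancel, one_mul] at this
  intro w hw
  have h1 := hy (c * n * w * (c * n)⁻¹) ((Subgroup.mem_normalizer_iff.1 hm w).1 hw)
  calc w * x = (c * n)⁻¹ * (c * n * w * (c * n)⁻¹ * (c * n * x * (c * n)⁻¹)) * (c * n) := by group
    _ = (c * n)⁻¹ * (c * n * x * (c * n)⁻¹ * (c * n * w * (c * n)⁻¹)) * (c * n) := by rw [h1]
    _ = x * w := by group

end Cfsg.Lib.Transfer
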