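/-
Abelian Hall subgroups: central elements of the derived subgroup, and the decomposition of a normal
abelian Hall subgroup.
-/
import Cfsg.Agent.Transfer.Fusion

namespace Cfsg.Lib.Transfer

open Subgroup
open scoped commutatorElement

variable {G : Type*} [Group G]

/-- A central element of `G'` lying in an abelian Hall subgroup is trivial. -/
theorem eq_one_of_mem_commutator_of_central [Finite G] (H : Subgroup G) [IsMulCommutative H]
    (hHall : (Nat.card H).Coprime H.index) {x : G} (hx : x ∈ H) (hxG : x ∈ commutator G)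
    (hxZ : x ∈ center G) : x = 1 := by
  open scoped IsMulCommutative in
  have h0 : MonoidHom.transfer (MonoidHom.id H) x = 1 :=
    Abelianization.commutator_subset_ker _ hxG
  open scoped IsMulCommutative in
  rw [MonoidHom.transfer_eq_pow (MonoidHom.id H) x fun k g₀ _ => by
    rw [mul_assoc, ← Subgroup.mem_center_iff.1 (pow_mem hxZ k) g₀, ← mul_assoc, inv_mul_cancel,
      one_mul]] at h0
  have h1 : x ^ H.index = 1 := by simpa using congrArg Subtype.val h0
  rw [← orderOf_eq_one_iff]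
  refine Nat.eq_one_of_dvd_coprimes hHall ?_ (orderOf_dvd_of_pow_eq_one h1)
  rw [← Subgroup.orderOf_mk x hx]
  exact _root_.orderOf_dvd_natCard _

/-- Decomposition of a normal abelian Hall subgroup. -/
theorem normal_abelian_hall_decomp [Finite G] (A : Subgroup G) [hA : A.Normal] [IsMulCommutative A]
    (hHall : (Nat.card A).Coprime A.index) :
    ⁅A, (⊤ : Subgroup G)⁆ = commutator G ⊓ A ∧
      (commutator G ⊓ A) ⊓ (center G ⊓ A) = ⊥ ∧ (commutator G ⊓ A) ⊔ (center G ⊓ A) = A := by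
  classical
  have hle : ⁅A, (⊤ : Subgroup G)⁆ ≤ A := commutator_le_left A ⊤
  have hfoc : focalSubgroup A ≤ ⁅A, (⊤ : Subgroup G)⁆ :=
    focalSubgroup_le_of_control _ _ fun x _ g _ => ⟨g, mem_top g, rfl⟩
  have hrel : ⁅A, (⊤ : Subgroup G)⁆.relIndex A ∣ Nat.card A := relIndex_dvd_card _ _
  have hfr : (focalSubgroup A).relIndex A ∣ Nat.card A := relIndex_dvd_card _ _
  have h1 : ⁅A, (⊤ : Subgroup G)⁆ = commutator G ⊓ A := by
    refine le_antisymm (le_inf ?_ hle) ?_
    · exact commutator_mono le_top le_rfl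
    · rw [commutator_inf_eq_focal A (Nat.Coprime.coprime_dvd_left hfr hHall).symm]
      exact hfoc
  refine ⟨h1, ?_, le_antisymm (sup_le inf_le_right inf_le_right) ?_⟩
  · rw [eq_bot_iff]
    rintro x ⟨⟨hxG, hxA⟩, hxZ, -⟩
    exact mem_bot.2 (eq_one_of_mem_commutator_of_central A hHall hxA hxG hxZ)
  intro x hx
  open scoped IsMulCommutative in
  let c : G ⧸ A → A := fun q => ⟨q.out * x * q.out⁻¹, hA.conj_mem x hx _⟩
  have := Fintype.ofFinite (G ⧸ A)
  open scoped IsMulCommutative in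
  let z : A := ∏ q, c q
  have hz : (z : G) ∈ center G := by
    rw [Subgroup.mem_center_iff]
    intro g
    open scoped IsMulCommutative in
    let ψ : A →* A :=
      { toFun := fun a => ⟨g * a * g⁻¹, hA.conj_mem a a.2 g⟩
        map_one' := Subtype.ext (by simp)
        map_mul' := fun a b => Subtype.ext (by simp [mul_assoc]) }
    have hψ : ∀ q, ψ (c q) = c (g • q) := by
      intro q
      obtain ⟨a, ha⟩ : ∃ a ∈ A, (g • q).out * a = g * q.out := by
        refine ⟨(g • q).out⁻¹ * (g * q.out), QuotientGroup.eq.1 ?_, by group⟩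
        rw [QuotientGroup.out_eq', ← smul_eq_mul g q.out, ← MulAction.Quotient.smul_mk,
          QuotientGroup.out_eq']
      refine Subtype.ext ?_
      show g * (q.out * x * q.out⁻¹) * g⁻¹ = (g • q).out * x * (g • q).out⁻¹
      have hax : a * x * a⁻¹ = x := by
        have := congrArg Subtype.val (IsMulCommutative.is_comm.comm
          (⟨a, ha.1⟩ : A) ⟨x, hx⟩)
        simp only [Subgroup.coe_mul] at this
        rw [this]; group
      calc g * (q.out * x * q.out⁻¹) * g⁻¹ = (g * q.out) * x * (g * q.out)⁻¹ := by group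
        _ = (g • q).out * (a * x * a⁻¹) * (g • q).out⁻¹ := by rw [← ha.2]; group
        _ = _ := by rw [hax]
    open scoped IsMulCommutative in
    have hψz : ψ z = z := by
      show ψ (∏ q, c q) = ∏ q, c q
      rw [map_prod]
      exact Fintype.prod_equiv (MulAction.toPerm g) _ _ hψ
    have := congrArg Subtype.val hψz
    exact mul_inv_eq_iff_eq_mul.1 this
  set D := ⁅A, (⊤ : Subgroup G)⁆.subgroupOf A
  open scoped IsMulCommutative in
  have hzx : (z : A ⧸ D) = (⟨x, hx⟩ : A) ^ Nat.card (G ⧸ A) := by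
    show QuotientGroup.mk' D (∏ q, c q) = QuotientGroup.mk' D (⟨x, hx⟩ ^ Nat.card (G ⧸ A))
    rw [map_prod, map_pow, Nat.card_eq_fintype_card, ← Finset.card_univ, ← Finset.prod_const]
    refine Finset.prod_congr rfl fun q _ => QuotientGroup.eq.2 ?_
    show (q.out * x * q.out⁻¹)⁻¹ * x ∈ ⁅A, (⊤ : Subgroup G)⁆
    rw [show (q.out * x * q.out⁻¹)⁻¹ * x = ⁅q.out, x⁻¹⁆ by rw [commutatorElement_def]; group,
      Subgroup.commutator_comm]
    exact commutator_mem_commutator (mem_top _) (inv_mem hx)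
  obtain ⟨u, v, huv⟩ : ∃ u v : ℤ, (Nat.card A : ℤ) * u + (Nat.card (G ⧸ A) : ℤ) * v = 1 := by
    refine ⟨Nat.gcdA (Nat.card A) (Nat.card (G ⧸ A)), Nat.gcdB (Nat.card A) (Nat.card (G ⧸ A)), ?_⟩
    rw [← Nat.gcd_eq_gcd_ab, ← A.index_eq_card, hHall.gcd_eq_one, Nat.cast_one]
  open scoped IsMulCommutative in
  have hx1 : ((⟨x, hx⟩ : A) : A ⧸ D) = ((z ^ v : A) : A ⧸ D) := by
    rw [QuotientGroup.mk_zpow, hzx, ← zpow_natCast, ← zpow_mul]
    conv_lhs => rw [← zpow_one ((⟨x, hx⟩ : A) : A ⧸ D), ← huv, zpow_add, zpow_mul, zpow_natCast,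
      ← QuotientGroup.mk_pow, pow_card_eq_one', QuotientGroup.mk_one, one_zpow, one_mul]
  have hmem : x * ((z ^ v : A) : G)⁻¹ ∈ ⁅A, (⊤ : Subgroup G)⁆ := by
    have h2 := QuotientGroup.eq.1 hx1.symm
    rw [mem_subgroupOf] at h2
    have h3 : x * ((z ^ v : A) : G)⁻¹ = ((z ^ v : A) : G)⁻¹ * x := by
      open scoped IsMulCommutative in
      exact congrArg Subtype.val (mul_comm (⟨x, hx⟩ : A) (z ^ v)⁻¹)
    rw [h3]
    simpa using h2
  rw [h1] at hmem
  have : x * ((z ^ v : A) : G)⁻¹ * ((z ^ v : A) : G) ∈ (commutator G ⊓ A) ⊔ (center G ⊓ A) :=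
    mul_mem_sup hmem ⟨by rw [Subgroup.coe_zpow]; exact zpow_mem hz v, (z ^ v : A).2⟩
  rwa [inv_mul_cancel_right] at this

end Cfsg.Lib.Transfer
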