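/-
Thompson's transfer lemma, via the sign of the permutation representation on the cosets.
-/
import Cfsg.Agent.Transfer.Basic

namespace Cfsg.Lib.Transfer

open Subgroup

variable {G : Type*} [Group G] [Finite G]

/-- An involution fixing no coset of a subgroup `Q` with `[G : Q] = 2 * odd` lies outside a normal
subgroup of index 2. -/
theorem exists_index_two_not_mem (Q : Subgroup G) {m : ℕ} (hm : Odd m) (hQ : Q.index = 2 * m)
    {u : G} (hu : orderOf u = 2) (hfix : ∀ g : G, g⁻¹ * u * g ∉ Q) :
    ∃ M : Subgroup G, M.Normal ∧ M.index = 2 ∧ u ∉ M := by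
  classical
  haveI := Fintype.ofFinite (G ⧸ Q)
  let ε : G →* ℤˣ := Equiv.Perm.sign.comp (MulAction.toPermHom G (G ⧸ Q))
  set σ : Equiv.Perm (G ⧸ Q) := MulAction.toPermHom G (G ⧸ Q) u with hσ
  have hsupp : σ.support = Finset.univ := by
    rw [Finset.eq_univ_iff_forall]
    intro x
    obtain ⟨g, rfl⟩ := QuotientGroup.mk_surjective x
    rw [Equiv.Perm.mem_support]
    intro h
    have h' : ((u * g : G) : G ⧸ Q) = g := h
    have h2 := QuotientGroup.eq.1 h'.symm
    exact hfix g (by rwa [← mul_assoc] at h2)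
  have hne : σ ≠ 1 := by
    intro h
    have h3 := hsupp
    rw [h, Equiv.Perm.support_one] at h3
    have h4 : Fintype.card (G ⧸ Q) = 0 := by rw [← Finset.card_univ, ← h3, Finset.card_empty]
    exact Fintype.card_ne_zero h4
  have hord : orderOf σ = 2 := orderOf_eq_prime
    (by rw [hσ, ← map_pow, ← hu, pow_orderOf_eq_one, map_one]) hne
  obtain ⟨k, hk⟩ := Equiv.Perm.cycleType_prime_order (hord.symm ▸ Nat.prime_two)
  have hsum := σ.sum_cycleType
  rw [hk, Multiset.sum_replicate, hsupp, Finset.card_univ, ← Nat.card_eq_fintype_card,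
    ← Q.index_eq_card, hQ, smul_eq_mul, hord] at hsum
  have hkm : k + 1 = m := by omega
  have hsign : ε u = -1 := by
    show Equiv.Perm.sign σ = -1
    rw [Equiv.Perm.sign_of_cycleType, hk, Multiset.sum_replicate, Multiset.card_replicate, hord,
      hkm, smul_eq_mul]
    exact Odd.neg_one_pow ((Even.mul_left even_two m).add_odd hm)
  refine ⟨ε.ker, inferInstance, ?_, ?_⟩
  · rw [Subgroup.index_ker]
    have htop : ε.range = ⊤ := by
      rw [eq_top_iff]
      intro z _
      rcases Int.units_eq_one_or z with rfl | rfl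
      · exact one_mem _
      · exact ⟨u, hsign⟩
    rw [htop, Nat.card_congr Subgroup.topEquiv.toEquiv, Nat.card_eq_fintype_card,
      Fintype.card_units_int]
  · rw [MonoidHom.mem_ker, hsign]
    decide

end Cfsg.Lib.Transfer
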