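/-
Tate's theorem in the form: a normal subgroup meeting a Sylow p-subgroup inside its Frattini
subgroup has a normal p-complement.  The central extension met in the proof splits because its
restriction to a Sylow subgroup does.
-/
import Cfsg.Agent.Transfer.Basic
import Cfsg.Agent.PGroups.Basic

set_option linter.style.haveILetI false
set_option linter.unusedSectionVars false

namespace Cfsg.Lib.Transfer

open Subgroup

variable {G : Type*} [Group G] [Finite G] {p : ℕ} [hp : Fact p.Prime]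

theorem isPGroup_eq_one_of_pResidual_eq_top {H : Type*} [Group H] (K : Subgroup G)
    (hK : Cfsg.pResidual p K = ⊤) (f : K →* H) (hH : IsPGroup p H) : f = 1 := by
  have hle : (⊤ : Subgroup K) ≤ f.ker := hK ▸ (closure_le _).2 fun x hx => by
    rw [SetLike.mem_coe, MonoidHom.mem_ker, ← orderOf_eq_one_iff]
    obtain ⟨i, hi⟩ := IsPGroup.iff_orderOf.1 hH (f x)
    exact Nat.eq_one_of_dvd_coprimes (Nat.Coprime.pow_right i hx) (orderOf_map_dvd f x) hi.dvd
  exact MonoidHom.ext fun x => hle (mem_top x)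

theorem isPGroup_pResidual_idem (N : Subgroup G) :
    Cfsg.pResidual p ((Cfsg.pResidual p N).map N.subtype : Subgroup G) = ⊤ := by
  set K := (Cfsg.pResidual p N).map N.subtype
  rw [eq_top_iff, ← Subgroup.map_le_map_iff_of_injective K.subtype_injective,
    ← MonoidHom.range_eq_map, range_subtype]
  refine map_le_iff_le_comap.2 ((closure_le _).2 fun x hx => ?_)
  have hxK : N.subtype x ∈ K := ⟨x, mem_pResidual_of_coprime hx, rfl⟩
  refine ⟨⟨N.subtype x, hxK⟩, subset_closure ?_, rfl⟩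
  show (orderOf (⟨N.subtype x, hxK⟩ : K)).Coprime p
  rw [Subgroup.orderOf_mk, coe_subtype, Subgroup.orderOf_coe]
  exact hx

/-- The relative key step: for `K = O^p(K)` normal, no proper `P`-normal subgroup of `K ⊓ P`
covers `K ⊓ P` modulo `Φ(P)`. -/
theorem subgroupOf_sylow_eq_of_le_frattini_sup (P : Sylow p G) (K : Subgroup G) [hKn : K.Normal]
    (hK : Cfsg.pResidual p K = ⊤) (R₀ : Subgroup P) [hR₀n : R₀.Normal]
    (hR₀ : R₀ ≤ K.subgroupOf (P : Subgroup G))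
    (hQF : K.subgroupOf (P : Subgroup G) ≤ frattini P ⊔ R₀) :
    R₀ = K.subgroupOf (P : Subgroup G) := by
  by_contra hne
  set Q : Subgroup P := K.subgroupOf (P : Subgroup G) with hQdef
  -- a normal subgroup `R` of index `p` in `Q`
  obtain ⟨R, ⟨⟨hR, hRQ⟩, hR₀R⟩, hRmax⟩ := WellFounded.has_min
    (IsWellFounded.wf (r := ((· > ·) : Subgroup P → Subgroup P → Prop)))
    {B | (B.Normal ∧ B < Q) ∧ R₀ ≤ B} ⟨R₀, ⟨hR₀n, lt_of_le_of_ne hR₀ hne⟩, le_rfl⟩
  haveI := hR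
  obtain ⟨L, hL, hRL, hLQ, hi⟩ := Cfsg.Lib.PGroups.exists_normal_relIndex_prime P.2 hRQ
  have hLQ' : L = Q := by
    by_contra hne'
    refine hRmax L ⟨⟨hL, lt_of_le_of_ne hLQ hne'⟩, hR₀R.trans hRL⟩ (lt_of_le_of_ne hRL fun he => ?_)
    rw [he, relIndex_self] at hi
    exact hp.out.ne_one hi.symm
  subst hLQ'
  set A : Subgroup (P ⧸ R) := Q.map (QuotientGroup.mk' R) with hAdef
  haveI : A.Normal := Subgroup.Normal.map inferInstance _ (QuotientGroup.mk'_surjective R)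
  have hAcard : Nat.card A = p := by
    rw [hAdef, ← Subgroup.relIndex_ker, QuotientGroup.ker_mk', hi]
  have hAc : A ≤ center (P ⧸ R) := Cfsg.Lib.PGroups.le_center_of_card_eq_prime (P.2.to_quotient R) hAcard
  have hAcomm : ∀ (a : A) (b : P ⧸ R), b * (a : P ⧸ R) = a * b :=
    fun a b => mem_center_iff.1 (hAc a.2) b
  letI : CommGroup A :=
    { (inferInstance : Group A) with mul_comm := fun a b => Subtype.ext (hAcomm b a) }
  -- the extension
  let E : Subgroup (G × (P ⧸ R)) :=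
    { carrier := {q | ∃ x : P, q.2 = x ∧ q.1 * (x : G)⁻¹ ∈ K}
      one_mem' := ⟨1, rfl, by simp⟩
      mul_mem' := by
        rintro a b ⟨x, hx, hxK⟩ ⟨y, hy, hyK⟩
        refine ⟨x * y, by rw [Prod.snd_mul, hx, hy, QuotientGroup.mk_mul], ?_⟩
        have : (a * b).1 * ((x * y : P) : G)⁻¹ =
            (a.1 * (x : G)⁻¹) * ((x : G) * (b.1 * (y : G)⁻¹) * (x : G)⁻¹) := by
          rw [Prod.fst_mul, show ((x * y : P) : G) = (x : G) * y from rfl]; group
        rw [this]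
        exact mul_mem hxK (hKn.conj_mem _ hyK _)
      inv_mem' := by
        rintro a ⟨x, hx, hxK⟩
        refine ⟨x⁻¹, by rw [Prod.snd_inv, hx, QuotientGroup.mk_inv], ?_⟩
        have : a⁻¹.1 * ((x⁻¹ : P) : G)⁻¹ = (x : G)⁻¹ * (a.1 * (x : G)⁻¹)⁻¹ * ((x : G)⁻¹)⁻¹ := by
          rw [Prod.fst_inv, show ((x⁻¹ : P) : G) = (x : G)⁻¹ from rfl]; group
        rw [this]
        exact hKn.conj_mem _ (inv_mem hxK) _ }
  let π : E →* G := (MonoidHom.fst G (P ⧸ R)).comp E.subtype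
  let S : Subgroup E := (P : Subgroup G).comap π
  have hmemA : ∀ e : S, ((e : E) : G × (P ⧸ R)).2 *
      (((⟨((e : E) : G × (P ⧸ R)).1, e.2⟩ : P) : P ⧸ R))⁻¹ ∈ A := by
    rintro ⟨⟨⟨g, q⟩, x, hx, hxK⟩, hg⟩
    simp only at hx
    subst hx
    have hxQ : (⟨g, hg⟩ : P) * x⁻¹ ∈ Q := hxK
    refine inv_mem_iff.1 ?_
    rw [mul_inv_rev, inv_inv, ← QuotientGroup.mk_inv, ← QuotientGroup.mk_mul]
    exact ⟨_, hxQ, rfl⟩
  let τ : S →* A := MonoidHom.mk' (fun e => ⟨_, hmemA e⟩) fun e f => Subtype.ext (by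
    show ((e : E) : G × (P ⧸ R)).2 * ((f : E) : G × (P ⧸ R)).2 *
      (((⟨((e : E) : G × (P ⧸ R)).1, e.2⟩ : P) : P ⧸ R) *
        ((⟨((f : E) : G × (P ⧸ R)).1, f.2⟩ : P) : P ⧸ R))⁻¹ = _
    rw [mul_inv_rev, mul_assoc, ← mul_assoc ((f : E) : G × (P ⧸ R)).2,
      ← hAcomm ⟨_, hmemA f⟩, ← mul_assoc]
    rfl)
  have hS : ¬ p ∣ S.index := by
    rw [show S.index = (P : Subgroup G).relIndex π.range from index_comap _ _]
    refine fun hd => P.not_dvd_index (hd.trans (relIndex_dvd_index_of_le ?_))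
    intro g hg
    exact ⟨⟨(g, ((⟨g, hg⟩ : P) : P ⧸ R)), ⟨g, hg⟩, rfl, by simp⟩, rfl⟩
  set T := MonoidHom.transfer τ
  set m := S.index
  have hA1 : ∀ a : A, ((1 : G), (a : P ⧸ R)) ∈ E := by
    rintro ⟨_, x, hx, rfl⟩
    refine ⟨x, rfl, ?_⟩
    rw [one_mul]
    exact inv_mem (show (x : G) ∈ K from hx)
  let ι : A →* E := MonoidHom.mk' (fun a => ⟨_, hA1 a⟩) fun a b => Subtype.ext (by simp)
  have hTι : ∀ a : A, T (ι a) = a ^ m := by
    intro a
    have hkey : ∀ (k : ℕ) (g₀ : E), g₀⁻¹ * ι a ^ k * g₀ ∈ S → g₀⁻¹ * ι a ^ k * g₀ = ι a ^ k := by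
      intro k g₀ _
      rw [← map_pow]
      refine Subtype.ext (Prod.ext ?_ ?_)
      · show (g₀ : G × (P ⧸ R)).1⁻¹ * 1 * (g₀ : G × (P ⧸ R)).1 = 1
        group
      · show (g₀ : G × (P ⧸ R)).2⁻¹ * ((a ^ k : A) : P ⧸ R) * (g₀ : G × (P ⧸ R)).2 = _
        rw [mul_assoc, ← hAcomm, inv_mul_cancel_left]
        rfl
    rw [MonoidHom.transfer_eq_pow τ (ι a) hkey]
    refine Subtype.ext ?_
    have h1 : ι a ^ m = ι (a ^ m) := (map_pow ι a m).symm
    show ((ι a ^ m : E) : G × (P ⧸ R)).2 *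
      ((⟨((ι a ^ m : E) : G × (P ⧸ R)).1, _⟩ : P) : P ⧸ R)⁻¹ = _
    have h2 : ((⟨((ι a ^ m : E) : G × (P ⧸ R)).1,
        (MonoidHom.transfer_eq_pow_aux (ι a) hkey : ι a ^ m ∈ S)⟩ : P) : P ⧸ R) = 1 := by
      rw [← QuotientGroup.mk_one]
      exact congrArg _ (Subtype.ext (congrArg (fun q : E => (q : G × (P ⧸ R)).1) h1))
    rw [h2, inv_one, mul_one, h1]
    rfl
  have hAinj : ∀ a : A, a ^ m = 1 → a = 1 := by
    intro a ha
    rw [← orderOf_eq_one_iff]
    refine Nat.eq_one_of_dvd_coprimes (hp.out.coprime_iff_not_dvd.2 hS) ?_ (orderOf_dvd_of_pow_eq_one ha)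
    exact (orderOf_dvd_natCard a).trans hAcard.dvd
  have hsurj : ∀ t : A, ∃ a : A, a ^ m = t := fun t =>
    ⟨(powCoprime (hAcard.symm ▸ hp.out.coprime_iff_not_dvd.2 hS)).symm t,
      (powCoprime (hAcard.symm ▸ hp.out.coprime_iff_not_dvd.2 hS)).apply_symm_apply t⟩
  -- `K` lifts trivially
  have hKE : ∀ k : K, ((k : G), (1 : P ⧸ R)) ∈ E := fun k => ⟨1, rfl, by simp⟩
  let κ : K →* E := MonoidHom.mk' (fun k => ⟨_, hKE k⟩) fun a b => Subtype.ext (by simp)
  have hTK : ∀ k : K, T (κ k) = 1 := fun k =>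
    DFunLike.congr_fun (isPGroup_eq_one_of_pResidual_eq_top K hK (T.comp κ)
      (IsPGroup.of_card (n := 1) (by rw [hAcard, pow_one]))) k
  -- the kernel of the transfer covers `P ⧸ R`
  let W : Subgroup P := (T.ker.map ((MonoidHom.snd G (P ⧸ R)).comp E.subtype)).comap (QuotientGroup.mk' R)
  have hW : W = ⊤ := by
    refine frattini_nongenerating (eq_top_iff.2 fun x _ => ?_)
    let e : E := ⟨((x : G), (x : P ⧸ R)), x, rfl, by simp⟩
    obtain ⟨a, ha⟩ := hsurj (T e)⁻¹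
    obtain ⟨y, hy, hya⟩ := a.2
    have h1 : x * y ∈ W := by
      refine ⟨e * ι a, ?_, ?_⟩
      · show T (e * ι a) = 1
        rw [map_mul, hTι, ha, mul_inv_cancel]
      · show (x : P ⧸ R) * (a : P ⧸ R) = ((x * y : P) : P ⧸ R)
        rw [← hya]
        rfl
    have hRW : R₀ ≤ W := fun r hr => ⟨1, one_mem _, by
      rw [map_one]; exact ((QuotientGroup.eq_one_iff r).2 (hR₀R hr)).symm⟩
    have hFW : frattini P ⊔ R₀ ≤ W ⊔ frattini P := sup_le le_sup_right (hRW.trans le_sup_left)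
    have := mul_mem (mem_sup_left h1) (inv_mem (hFW (hQF hy)))
    rwa [mul_inv_cancel_right] at this
  -- contradiction
  haveI : Nontrivial A := by rw [← Finite.one_lt_card_iff_nontrivial, hAcard]; exact hp.out.one_lt
  obtain ⟨a, ha⟩ := exists_ne (1 : A)
  obtain ⟨x, hx, hxa⟩ := a.2
  obtain ⟨e, he, hex⟩ := (hW.ge (mem_top x) : x ∈ W)
  have h3 : (e : G × (P ⧸ R)).2 = (a : P ⧸ R) := hex.trans hxa
  have hgK : (e : G × (P ⧸ R)).1 ∈ K := by
    obtain ⟨y, hy, hyK⟩ := e.2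
    have hyQ : y ∈ Q := by
      have h4 : x⁻¹ * y ∈ R := QuotientGroup.eq.1 (hxa.trans (h3.symm.trans hy))
      simpa using mul_mem hx (hRL h4)
    simpa using mul_mem hyK (hyQ : (y : G) ∈ K)
  have he' : e = κ ⟨_, hgK⟩ * ι a := Subtype.ext (Prod.ext (by simp [κ, ι]) (by simp [κ, ι, h3]))
  have h5 : T e = 1 := he
  rw [he', map_mul, hTK, one_mul, hTι] at h5
  exact ha (hAinj a h5)

/-- The key step: `K` normal with `K = O^p(K)` and `K ⊓ P ≤ Φ(P)` is a `p'`-group. -/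
theorem inf_sylow_eq_bot_of_le_frattini (P : Sylow p G) (K : Subgroup G) [hKn : K.Normal]
    (hK : Cfsg.pResidual p K = ⊤) (h : K ⊓ (P : Subgroup G) ≤ (frattini P).map (P : Subgroup G).subtype) :
    K ⊓ (P : Subgroup G) = ⊥ := by
  have hQ := subgroupOf_sylow_eq_of_le_frattini_sup P K hK ⊥ bot_le (by
    intro x hx
    obtain ⟨y, hy, hyx⟩ := h (Subgroup.mem_inf.2 ⟨hx, x.2⟩)
    exact mem_sup_left ((Subtype.ext hyx : y = x) ▸ hy))
  exact disjoint_iff.1 (subgroupOf_eq_bot.1 hQ.symm)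

/-- **Tate**: a normal subgroup with `N ⊓ P ≤ Φ(P)` has a normal `p`-complement. -/
theorem hasNormalPComplement_of_le_frattini (P : Sylow p G) (N : Subgroup G) [N.Normal]
    (h : N ⊓ (P : Subgroup G) ≤ (frattini P).map (P : Subgroup G).subtype) :
    Cfsg.HasNormalPComplement p N := by
  rw [hasNormalPComplement_iff_pResidual]
  set K := (Cfsg.pResidual p N).map N.subtype
  haveI : K.Normal := ConjAct.normal_of_characteristic_of_normal
  have hbot := inf_sylow_eq_bot_of_le_frattini P K (isPGroup_pResidual_idem N)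
    (le_trans (inf_le_inf_right _ (map_subtype_le _)) h)
  rw [← card_subtype]
  refine (hp.out.coprime_iff_not_dvd.2 fun hd => ?_).symm
  obtain ⟨x, hx⟩ := exists_prime_orderOf_dvd_card' p hd
  rw [← Subgroup.orderOf_coe] at hx
  have hxp : IsPGroup p (zpowers (x : G)) := IsPGroup.of_card (n := 1) (by rw [Nat.card_zpowers, hx, pow_one])
  obtain ⟨S, hS⟩ := hxp.exists_le_sylow
  obtain ⟨g, hg⟩ := MulAction.exists_smul_eq G S P
  have hm : g * x * g⁻¹ ∈ K ⊓ (P : Subgroup G) := by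
    refine ⟨‹K.Normal›.conj_mem _ x.2 _, ?_⟩
    rw [← hg, sylow_smul_coe]
    refine (mem_map_conj.2 ?_)
    simpa [mul_assoc] using hS (mem_zpowers (x : G))
  rw [hbot, mem_bot, conj_eq_one_iff] at hm
  rw [hm, orderOf_one] at hx
  exact hp.out.ne_one hx.symm

end Cfsg.Lib.Transfer
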