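/-
Applications of Frobenius' criterion: prime-power generation, small Sylow 2-subgroups, intersections of
normal p-complements.
-/
import Cfsg.Agent.Transfer.Frobenius

namespace Cfsg.Lib.Transfer

open Subgroup
open scoped commutatorElement

variable {G : Type*} [Group G] [Finite G]

/-- It is enough to check the elements of prime-power order. -/
theorem le_of_forall_prime_pow {M K : Subgroup G}
    (h : ∀ g ∈ M, ∀ r k : ℕ, r.Prime → orderOf g = r ^ k → g ∈ K) : M ≤ K := by
  intro g hg
  induction hn : orderOf g using Nat.strong_induction_on generalizing g with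
  | _ n ih =>
    subst hn
    by_cases h1 : orderOf g = 1
    · rw [orderOf_eq_one_iff.1 h1]
      exact one_mem _
    obtain ⟨p, hp, hdvd⟩ := Nat.exists_prime_and_dvd h1
    haveI := Fact.mk hp
    obtain ⟨a, b, ha, hb, hab, ⟨k, hk⟩, hcop⟩ := exists_pPart p g
    rw [← hab]
    refine mul_mem (h a ((zpowers_le.2 hg) ha) p k hp hk) ?_
    refine ih _ (lt_of_le_of_ne
      (Nat.le_of_dvd (orderOf_pos g) (orderOf_dvd_of_mem_zpowers hb)) ?_) ((zpowers_le.2 hg) hb) rfl
    intro he
    rw [he] at hcop
    exact (hp.coprime_iff_not_dvd.1 hcop.symm) hdvd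

/-- An element of `r`-power order normalising a 2-group of order `2 ^ n` centralises it as soon as
no fixed-point count `2 ^ j`, `j < n`, is congruent to `2 ^ n` modulo `r`. -/
theorem centralize_two_group (T : Subgroup G) {n r k : ℕ} (hr : r.Prime)
    (hT : Nat.card T = 2 ^ n) (hmod : ∀ j < n, ¬ 2 ^ n ≡ 2 ^ j [MOD r])
    {g : G} (hg : g ∈ normalizer (T : Set G)) (hk : orderOf g = r ^ k) :
    g ∈ centralizer (T : Set G) := by
  haveI := Fact.mk hr
  set g' : normalizer (T : Set G) := ⟨g, hg⟩
  have hp : IsPGroup r (zpowers g') := IsPGroup.of_card (n := k)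
    (by rw [Nat.card_zpowers, Subgroup.orderOf_mk, hk])
  have h1 := hp.card_modEq_card_fixedPoints T
  let F : Subgroup T :=
    { carrier := MulAction.fixedPoints (zpowers g') T
      one_mem' := fun m => smul_one m
      mul_mem' := fun {a b} ha hb m => by rw [smul_mul', ha m, hb m]
      inv_mem' := fun {a} ha m => by rw [smul_inv', ha m] }
  have hF : Nat.card F ∣ 2 ^ n := hT ▸ card_subgroup_dvd_card F
  obtain ⟨j, hj, hFj⟩ := (Nat.dvd_prime_pow Nat.prime_two).1 hF
  have hFc : Nat.card (MulAction.fixedPoints (zpowers g') T) = 2 ^ j := hFj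
  rw [hT, hFc] at h1
  rcases hj.lt_or_eq with hlt | rfl
  · exact absurd h1 (hmod j hlt)
  have htop : F = ⊤ := (card_eq_iff_eq_top F).1 (hFj.trans hT.symm)
  intro t ht
  have h2 : (⟨t, ht⟩ : T) ∈ F := htop ▸ mem_top _
  have h3 := congrArg Subtype.val (h2 ⟨g', mem_zpowers g'⟩)
  change g * t * g⁻¹ = t at h3
  exact (mul_inv_eq_iff_eq_mul.1 h3).symm

/-- Burnside for small elementary Sylow 2-subgroups. -/
theorem hasNormalPComplement_two_of_small (T : Sylow 2 G) [IsMulCommutative (T : Subgroup G)]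
    {n : ℕ} (hT : Nat.card T = 2 ^ n)
    (h : ∀ r : ℕ, r.Prime → r ≠ 2 → r ∣ Nat.card G → ∀ j < n, ¬ 2 ^ n ≡ 2 ^ j [MOD r]) :
    Cfsg.HasNormalPComplement 2 G := by
  have hN : normalizer (T : Set G) ≤ centralizer (T : Set G) := by
    refine le_of_forall_prime_pow fun g hg r k hr hk => ?_
    by_cases h2 : r = 2
    · subst h2
      haveI := Fact.mk Nat.prime_two
      have h1 := (IsPGroup.of_card (p := 2) ((Nat.card_zpowers g).trans hk)).inf_normalizer_sylow T
      have h3 : g ∈ zpowers g ⊓ normalizer (T : Set G) := ⟨mem_zpowers g, hg⟩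
      rw [h1] at h3
      exact (T : Subgroup G).le_centralizer h3.2
    rcases Nat.eq_zero_or_pos k with rfl | hk0
    · rw [pow_zero, orderOf_eq_one_iff] at hk
      rw [hk]
      exact one_mem _
    refine centralize_two_group (T : Subgroup G) hr hT (h r hr h2 ?_) hg hk
    exact (dvd_pow_self r hk0.ne').trans (hk ▸ _root_.orderOf_dvd_natCard g)
  exact hasNormalPComplement_of_isComplement' (MonoidHom.ker_transferSylow_isComplement' T hN)

/-- A Hall subgroup has a normal complement if `G` is `p`-nilpotent for all its primes. -/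
theorem exists_complement_of_forall_prime (H : Subgroup G) (hHall : (Nat.card H).Coprime H.index)
    (h : ∀ p : ℕ, p.Prime → p ∣ Nat.card H → Cfsg.HasNormalPComplement p G) :
    ∃ N : Subgroup G, N.Normal ∧ N.IsComplement' H := by
  let N : Subgroup G := ⨅ p : {p : ℕ // p.Prime ∧ p ∣ Nat.card H}, Cfsg.pResidual p.1 G
  haveI hN : N.Normal := normal_iInf_normal fun p => inferInstance
  have h1 : (Nat.card N).Coprime (Nat.card H) := by
    refine Nat.coprime_of_dvd' fun p hp hpN hpH => ?_
    haveI := Fact.mk hp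
    have hc := hasNormalPComplement_iff_pResidual.1 (h p hp hpH)
    have hle : N ≤ Cfsg.pResidual p G := iInf_le_of_le ⟨p, hp, hpH⟩ le_rfl
    exact absurd (hpN.trans (card_dvd_of_le hle)) (hp.coprime_iff_not_dvd.1 hc.symm)
  have h2 : N.index.Coprime H.index := by
    refine Nat.coprime_of_dvd' fun r hr hrN hrH => ?_
    haveI := Fact.mk hr
    have hnH : ¬ r ∣ Nat.card H := fun hd => hr.ne_one (Nat.eq_one_of_dvd_coprimes hHall hd hrH)
    exfalso
    rw [index_eq_card] at hrN
    obtain ⟨q, hq⟩ := exists_prime_orderOf_dvd_card' (G := G ⧸ N) r hrN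
    obtain ⟨x, rfl⟩ := QuotientGroup.mk_surjective q
    obtain ⟨a, b, -, -, hab, ⟨k, hk⟩, hcop⟩ := exists_pPart r x
    have haN : a ∈ N := by
      rw [Subgroup.mem_iInf]
      rintro ⟨p, hp, hpH⟩
      refine mem_pResidual_of_coprime ?_
      rw [hk]
      exact Nat.Coprime.pow_left k ((Nat.coprime_primes hr hp).2 fun he => hnH (he ▸ hpH))
    have hxb : (x : G ⧸ N) = b := by
      rw [← hab, QuotientGroup.mk_mul, (QuotientGroup.eq_one_iff a).2 haN, one_mul]
    rw [hxb] at hq
    exact hr.coprime_iff_not_dvd.1 hcop.symm (hq ▸ orderOf_map_dvd (QuotientGroup.mk' N) b)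
  have h3 : Nat.card N = H.index := by
    have hmul : Nat.card H * H.index = Nat.card N * N.index :=
      (H.card_mul_index).trans N.card_mul_index.symm
    exact Nat.dvd_antisymm (h1.dvd_of_dvd_mul_left (hmul ▸ Dvd.intro _ rfl))
      (h2.symm.dvd_of_dvd_mul_right (hmul ▸ Dvd.intro_left _ rfl))
  exact ⟨N, hN, isComplement'_of_coprime (by rw [h3, mul_comm, H.card_mul_index]) h1⟩

end Cfsg.Lib.Transfer
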