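import Cfsg.Agent.Fusion.ThompsonControl
import Cfsg.Agent.Components.Sfour.WeakClosure
import Cfsg.Agent.Coprime.Fitting
import Cfsg.Agent.PLocal.Constrained
import Cfsg.Agent.SolvStruct.Automizer.PQHall

/-!
The weakly closed elements of a Sylow subgroup form a direct factor of its centre.
-/

set_option autoImplicit false
set_option linter.style.haveILetI false

namespace Cfsg.Lib.WeakFactor

open Subgroup

variable {G : Type*} [Group G] [Finite G] {p : ℕ} [Fact p.Prime]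

/-- The norm map from the centre of `S` into the fixed points of an overgroup `M` splits. -/
theorem factor (S : Sylow p G) (M A : Subgroup G) (hSM : (S : Subgroup G) ≤ M)
    (hAS : A ≤ (S : Subgroup G)) (hAc : ∀ a ∈ A, ∀ b ∈ A, a * b = b * a)
    (hMA : ∀ m ∈ M, ∀ a ∈ A, m * a * m⁻¹ ∈ A)
    (hZA : (S : Subgroup G) ⊓ centralizer ((S : Subgroup G) : Set G) ≤ A)
    (hW : ∀ x ∈ A ⊓ centralizer (M : Set G), ∀ g : G, g * x * g⁻¹ ∈ (S : Subgroup G) → g * x * g⁻¹ = x) :
    ∃ W K : Subgroup G,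
      (∀ x : G, x ∈ W ↔ (x ∈ (S : Subgroup G) ∧ ∀ g : G, g * x * g⁻¹ ∈ (S : Subgroup G) → g * x * g⁻¹ = x)) ∧
      K ≤ ((S : Subgroup G) ⊓ centralizer ((S : Subgroup G) : Set G)) ∧ W ⊓ K = ⊥ ∧
      W ⊔ K = ((S : Subgroup G) ⊓ centralizer ((S : Subgroup G) : Set G)) := by
  classical
  set Z : Subgroup G := (S : Subgroup G) ⊓ centralizer ((S : Subgroup G) : Set G) with hZdef
  set W : Subgroup G := A ⊓ centralizer (M : Set G) with hWdef
  letI : CommGroup A :=
    { (inferInstance : Group A) with mul_comm := fun a b => Subtype.ext (hAc a a.2 b b.2) }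
  let S' : Subgroup M := (S : Subgroup G).subgroupOf M
  haveI := Fintype.ofFinite (M ⧸ S')
  have hZcomm : ∀ z ∈ Z, ∀ s ∈ (S : Subgroup G), s * z = z * s := fun z hz s hs =>
    mem_centralizer_iff.1 hz.2 s hs
  let f : Z → M ⧸ S' → A := fun z => Quotient.lift
    (fun m : M => (⟨(m : G) * z * (m : G)⁻¹, hMA m m.2 z (hZA z.2)⟩ : A))
    (by
      intro m m' hmm
      have h0 : m⁻¹ * m' ∈ S' := (QuotientGroup.leftRel_apply (s := S')).1 hmm
      have h1 : ((m⁻¹ * m' : M) : G) ∈ (S : Subgroup G) := mem_subgroupOf.1 h0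
      refine Subtype.ext ?_
      have h2 := hZcomm z z.2 _ h1
      simp only [Subgroup.coe_mul, Subgroup.coe_inv] at h2
      show (m : G) * z * (m : G)⁻¹ = (m' : G) * z * (m' : G)⁻¹
      calc (m : G) * z * (m : G)⁻¹
          = (m : G) * ((z : G) * ((m : G)⁻¹ * (m' : G))) * (m' : G)⁻¹ := by group
        _ = (m : G) * (((m : G)⁻¹ * (m' : G)) * z) * (m' : G)⁻¹ := by rw [h2]
        _ = (m' : G) * z * (m' : G)⁻¹ := by group)
  have hfmk : ∀ (z : Z) (m : M), ((f z (QuotientGroup.mk m)) : G) = (m : G) * z * (m : G)⁻¹ := fun z m => rfl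
  have hfmul : ∀ (z w : Z) (q : M ⧸ S'), f (z * w) q = f z q * f w q := by
    intro z w q
    obtain ⟨m, rfl⟩ := QuotientGroup.mk_surjective q
    refine Subtype.ext ?_
    simp only [Subgroup.coe_mul, hfmk]
    group
  let τ : Z →* A := MonoidHom.mk' (fun z => ∏ q, f z q) (fun z w => by
    simp only [hfmul, Finset.prod_mul_distrib])
  have hτW : ∀ z, ((τ z : A) : G) ∈ W := by
    intro z
    refine ⟨(τ z).2, mem_centralizer_iff.2 fun m hm => ?_⟩
    let c : A →* A := MonoidHom.mk' (fun a => ⟨m * a * m⁻¹, hMA m hm a a.2⟩)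
      (fun a b => Subtype.ext (by simp only [Subgroup.coe_mul]; group))
    have hc : c (τ z) = τ z := by
      show c (∏ q, f z q) = ∏ q, f z q
      rw [map_prod]
      refine Fintype.prod_equiv (MulAction.toPerm (⟨m, hm⟩ : M)) _ _ fun q => ?_
      obtain ⟨k, rfl⟩ := QuotientGroup.mk_surjective q
      refine Subtype.ext ?_
      show m * ((f z (QuotientGroup.mk k)) : G) * m⁻¹
        = ((f z ((⟨m, hm⟩ : M) • (QuotientGroup.mk k : M ⧸ S'))) : G)
      rw [MulAction.Quotient.smul_mk]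
      simp only [hfmk, smul_eq_mul, Subgroup.coe_mul]
      group
    have h3 : m * ((τ z : A) : G) * m⁻¹ = ((τ z : A) : G) := congrArg Subtype.val hc
    calc m * ((τ z : A) : G) = (m * ((τ z : A) : G) * m⁻¹) * m := by group
      _ = ((τ z : A) : G) * m := by rw [h3]
  have hWZ : W ≤ Z := fun x hx =>
    ⟨hAS hx.1, mem_centralizer_iff.2 fun s hs => mem_centralizer_iff.1 hx.2 s (hSM hs)⟩
  have hτfix : ∀ z : Z, (z : G) ∈ W → ((τ z : A) : G) = (z : G) ^ S'.index := by
    intro z hz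
    have h1 : ∀ q : M ⧸ S', f z q = ⟨z, hZA z.2⟩ := by
      intro q
      obtain ⟨m, rfl⟩ := QuotientGroup.mk_surjective q
      refine Subtype.ext ?_
      rw [hfmk, show (m : G) * z = z * m from mem_centralizer_iff.1 hz.2 m m.2, mul_inv_cancel_right]
    show (((∏ q, f z q) : A) : G) = _
    rw [Finset.prod_congr rfl (fun q _ => h1 q), Finset.prod_const, SubgroupClass.coe_pow,
      Finset.card_univ, ← Nat.card_eq_fintype_card]
    rfl
  have hcop : (Nat.card Z).Coprime S'.index := by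
    have hdvd : S'.index ∣ (S : Subgroup G).index := (relIndex_dvd_index_of_le hSM)
    obtain ⟨k, hk⟩ := IsPGroup.iff_card.1 (S.2.to_le (inf_le_left (a := (S : Subgroup G)))  : IsPGroup p Z)
    rw [hk]
    exact (((Fact.out : p.Prime).coprime_iff_not_dvd).2
      fun hd => S.not_dvd_index (hd.trans hdvd)).pow_left k
  have hWinj : ∀ x ∈ W, x ^ S'.index = 1 → x = 1 := fun x hx h =>
    orderOf_eq_one_iff.1 (Nat.eq_one_of_dvd_coprimes hcop
      (Subgroup.orderOf_dvd_natCard _ (hWZ hx)) (orderOf_dvd_of_pow_eq_one h))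
  have hisol : ∀ x : G, x ∈ W ↔ (x ∈ (S : Subgroup G) ∧
      ∀ g : G, g * x * g⁻¹ ∈ (S : Subgroup G) → g * x * g⁻¹ = x) := by
    refine fun x => ⟨fun hx => ⟨hAS hx.1, hW x hx⟩, fun ⟨hxS, hx⟩ => ?_⟩
    have hxZ : x ∈ Z := ⟨hxS, mem_centralizer_iff.2 fun s hs => by
      have h := hx s (mul_mem (mul_mem hs hxS) (inv_mem hs))
      calc s * x = (s * x * s⁻¹) * s := by group
        _ = x * s := by rw [h]⟩
    refine ⟨hZA hxZ, mem_centralizer_iff.2 fun m hm => ?_⟩
    have h := hx m (hAS (hMA m hm x (hZA hxZ)))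
    calc m * x = (m * x * m⁻¹) * m := by group
      _ = x * m := by rw [h]
  refine ⟨W, τ.ker.map Z.subtype, hisol, map_subtype_le _, ?_, le_antisymm (sup_le hWZ (map_subtype_le _)) ?_⟩
  · rw [eq_bot_iff_forall]
    rintro x hx
    obtain ⟨hxW, z, hz, rfl⟩ := Subgroup.mem_inf.1 hx
    have h := hτfix z hxW
    rw [MonoidHom.mem_ker.1 hz] at h
    exact hWinj _ hxW h.symm
  · intro x hx
    set w : G := ((τ ⟨x, hx⟩ : A) : G) with hwdef
    have hwW : w ∈ W := hτW _
    -- a root of `w` inside `W`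
    obtain ⟨e, he⟩ := (powCoprime hcop).surjective ⟨w, hWZ hwW⟩
    have he' : (e : G) ^ S'.index = w := congrArg Subtype.val he
    have heW : (e : G) ∈ W := by
      have hco : (S'.index).Coprime (orderOf (e : G)) :=
        (hcop.coprime_dvd_left (Subgroup.orderOf_dvd_natCard _ e.2)).symm
      obtain ⟨k, hk⟩ := exists_pow_eq_self_of_coprime hco
      rw [← hk, he']
      exact pow_mem hwW k
    have hker : (⟨x, hx⟩ : Z) * e⁻¹ ∈ τ.ker := by
      rw [MonoidHom.mem_ker, map_mul, map_inv, mul_inv_eq_one]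
      refine Subtype.ext ?_
      rw [hτfix e heW, he']
    have hxe : x = (x * (e : G)⁻¹) * e := by group
    rw [hxe]
    exact mul_mem (mem_sup_right ⟨_, hker, rfl⟩) (mem_sup_left heW)

theorem factor_odd (hp : p ≠ 2) (S : Sylow p G) :
    ∃ W K : Subgroup G,
      (∀ x : G, x ∈ W ↔ (x ∈ (S : Subgroup G) ∧ ∀ g : G, g * x * g⁻¹ ∈ (S : Subgroup G) → g * x * g⁻¹ = x)) ∧
      K ≤ ((S : Subgroup G) ⊓ centralizer ((S : Subgroup G) : Set G)) ∧ W ⊓ K = ⊥ ∧
      W ⊔ K = ((S : Subgroup G) ⊓ centralizer ((S : Subgroup G) : Set G)) := by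
  set J := Cfsg.thompsonSubgroupAOf (S : Subgroup G) with hJ
  have hJS : J ≤ (S : Subgroup G) := map_subtype_le _
  have hZJ := Cfsg.Lib.Fusion.center_le_thompsonAOf (T := (S : Subgroup G))
  refine factor S (normalizer (J : Set G)) (J ⊓ centralizer (J : Set G)) ?_
    (inf_le_left.trans hJS) ?_ ?_ (le_inf hZJ ?_) ?_
  · intro s hs
    exact Cfsg.Lib.Fusion.thompsonAOf_normalized (S := (S : Subgroup G)) le_rfl hs (le_normalizer hs)
  · exact fun a ha b hb => mem_centralizer_iff.1 hb.2 a ha.1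
  · intro m hm a ha
    refine ⟨(mem_normalizer_iff.1 hm a).1 ha.1, mem_centralizer_iff.2 fun j hj => ?_⟩
    have hj' : m⁻¹ * j * m ∈ J := by
      have := (mem_normalizer_iff.1 (inv_mem hm) j).1 hj
      simpa using this
    have h := mem_centralizer_iff.1 ha.2 _ hj'
    calc j * (m * a * m⁻¹) = m * ((m⁻¹ * j * m) * a) * m⁻¹ := by group
      _ = m * (a * (m⁻¹ * j * m)) * m⁻¹ := by rw [h]
      _ = (m * a * m⁻¹) * j := by group
  · exact fun z hz => mem_centralizer_iff.2 fun j hj => mem_centralizer_iff.1 hz.2 j (hJS hj)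
  · intro x hx g hg
    exact Cfsg.Lib.JWeak.weaklyClosed_odd hp S (hJS hx.1.1) hx.2 hg

theorem factor_solvable [Group.IsSolvable G] (S : Sylow p G) :
    ∃ W K : Subgroup G,
      (∀ x : G, x ∈ W ↔ (x ∈ (S : Subgroup G) ∧ ∀ g : G, g * x * g⁻¹ ∈ (S : Subgroup G) → g * x * g⁻¹ = x)) ∧
      K ≤ ((S : Subgroup G) ⊓ centralizer ((S : Subgroup G) : Set G)) ∧ W ⊓ K = ⊥ ∧
      W ⊔ K = ((S : Subgroup G) ⊓ centralizer ((S : Subgroup G) : Set G)) := by
  set N := Cfsg.pPrimeCore p G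
  set π := QuotientGroup.mk' N
  have hπ : Function.Surjective π := QuotientGroup.mk'_surjective N
  haveI : Group.IsSolvable (G ⧸ N) := Group.isSolvable_of_surjective hπ
  set V := Cfsg.pCore p (G ⧸ N)
  set B := V.comap π with hB
  haveI : B.Normal := Subgroup.Normal.comap inferInstance π
  set P₀ := (S : Subgroup G) ⊓ B with hP₀
  have hNS : ∀ x ∈ N, x ∈ (S : Subgroup G) → x = 1 := by
    intro x hxN hxS
    obtain ⟨k, hk⟩ := S.2 ⟨x, hxS⟩
    exact orderOf_eq_one_iff.1 (Nat.eq_one_of_dvd_coprimes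
      ((Cfsg.Lib.Components.coprime_card_pPrimeCore p).pow_right k) (Subgroup.orderOf_dvd_natCard _ hxN)
      (orderOf_dvd_of_pow_eq_one (congrArg Subtype.val hk)))
  have hVS : ∀ v ∈ V, ∃ s ∈ P₀, π s = v := by
    intro v hv
    have hle := Cfsg.Lib.Coprime.pCore_le_sylow p (S.mapSurjective hπ) hv
    rw [Sylow.coe_mapSurjective] at hle
    obtain ⟨s, hs, rfl⟩ := hle
    exact ⟨s, ⟨hs, hv⟩, rfl⟩
  have hBN : B ≤ N ⊔ P₀ := by
    intro b hb
    obtain ⟨s, hs, hse⟩ := hVS (π b) hb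
    have h1 : b * s⁻¹ ∈ N := (QuotientGroup.eq_one_iff _).1 (by
      show π (b * s⁻¹) = 1
      rw [map_mul, map_inv, hse, mul_inv_cancel])
    have h2 : b = (b * s⁻¹) * s := by group
    rw [h2]
    exact mul_mem_sup h1 hs
  -- Frattini argument
  have hfr : ∀ g : G, ∃ n ∈ N, ∃ m ∈ normalizer (P₀ : Set G), g = n * m := by
    obtain ⟨P, hP⟩ := Cfsg.Lib.Automizer.sylow_inf_normal S B
    have htop := Sylow.normalizer_sup_eq_top P
    rw [hP] at htop
    intro g
    have hle : normalizer (P₀ : Set G) ⊔ B ≤ N ⊔ normalizer (P₀ : Set G) :=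
      sup_le le_sup_right (hBN.trans (sup_le_sup_left le_normalizer _))
    obtain ⟨n, hn, m, hm, e⟩ := mem_sup_of_normal_left.1 (hle (htop.ge (mem_top g)))
    exact ⟨n, hn, m, hm, e.symm⟩
  have hSM : (S : Subgroup G) ≤ normalizer (P₀ : Set G) :=
    fun s hs => (Cfsg.Lib.Coprime.le_normalizer_inf (H := (S : Subgroup G)) le_normalizer le_normalizer_of_normal) hs
  have hCP : ∀ s ∈ (S : Subgroup G), (∀ x ∈ P₀, x * s = s * x) → s ∈ P₀ := by
    intro s hs hc
    refine ⟨hs, ?_⟩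
    refine Cfsg.Lib.Coprime.centralizer_pCore_le p Cfsg.Lib.Coprime.pPrimeCore_quotient_eq_bot
      (mem_centralizer_iff.2 fun v hv => ?_)
    obtain ⟨x, hx, rfl⟩ := hVS v hv
    rw [← map_mul, ← map_mul, hc x hx]
  refine factor S (normalizer (P₀ : Set G)) (P₀ ⊓ centralizer (P₀ : Set G)) hSM
    (inf_le_left.trans inf_le_left) (fun a ha b hb => mem_centralizer_iff.1 hb.2 a ha.1) ?_ ?_ ?_
  · intro m hm a ha
    refine ⟨(mem_normalizer_iff.1 hm a).1 ha.1, mem_centralizer_iff.2 fun j hj => ?_⟩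
    have hj' : m⁻¹ * j * m ∈ P₀ := by
      have := (mem_normalizer_iff.1 (inv_mem hm) j).1 hj
      simpa using this
    have h := mem_centralizer_iff.1 ha.2 _ hj'
    calc j * (m * a * m⁻¹) = m * ((m⁻¹ * j * m) * a) * m⁻¹ := by group
      _ = m * (a * (m⁻¹ * j * m)) * m⁻¹ := by rw [h]
      _ = (m * a * m⁻¹) * j := by group
  · exact fun z hz => ⟨hCP z hz.1 fun x hx => mem_centralizer_iff.1 hz.2 x hx.1,
      mem_centralizer_iff.2 fun x hx => mem_centralizer_iff.1 hz.2 x hx.1⟩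
  · intro x hx g hg
    obtain ⟨n, hn, m, hm, rfl⟩ := hfr g
    have hmx : m * x * m⁻¹ = x := by
      rw [mem_centralizer_iff.1 hx.2 m hm, mul_inv_cancel_right]
    have hgx : n * m * x * (n * m)⁻¹ = n * x * n⁻¹ := by
      rw [show n * m * x * (n * m)⁻¹ = n * (m * x * m⁻¹) * n⁻¹ by group, hmx]
    rw [hgx] at hg ⊢
    have hN : N.Normal := inferInstance
    have h1 : x⁻¹ * (n * x * n⁻¹) ∈ N := by
      have h := hN.conj_mem n hn x⁻¹
      rw [inv_inv] at h
      rw [show x⁻¹ * (n * x * n⁻¹) = x⁻¹ * n * x * n⁻¹ by group]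
      exact mul_mem h (inv_mem hn)
    have h2 := hNS _ h1 (mul_mem (inv_mem hx.1.1.1) hg)
    exact (inv_mul_eq_one.1 h2).symm

end Cfsg.Lib.WeakFactor
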