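/-
A TI Hall subgroup contains a conjugate of every subgroup supported on its primes.
-/
import Cfsg.Agent.Transfer.Basic
import Cfsg.Prelude.Def_OddOrderLocal

namespace Cfsg.Lib.Transfer

open Subgroup

variable {G : Type*} [Group G] [Finite G]

theorem card_ne_one_subtype {A : Type*} [Group A] [Finite A] :
    Nat.card {a : A // a ≠ 1} + 1 = Nat.card A := by
  classical
  haveI := Fintype.ofFinite A
  have : 0 < Fintype.card A := Fintype.card_pos
  rw [Nat.card_eq_fintype_card, Nat.card_eq_fintype_card, Fintype.card_subtype_compl,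
    Fintype.card_subtype_eq]
  omega

variable (H : Subgroup G) (hHall : (Nat.card H).Coprime H.index)
  (hTI : Cfsg.IsTISubset (H : Set G))

include hHall in
theorem exists_conj_mem_of_prime_pow {y : G} {q k : ℕ} (hq : q.Prime) (hqH : q ∣ Nat.card H)
    (hy : orderOf y = q ^ k) : ∃ g : G, g⁻¹ * y * g ∈ H := by
  haveI := Fact.mk hq
  obtain ⟨R⟩ : Nonempty (Sylow q H) := inferInstance
  have hidx : ¬ q ∣ ((R : Subgroup H).map H.subtype).index := by
    rw [index_map_subtype]
    exact hq.not_dvd_mul R.not_dvd_index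
      fun hd => hq.ne_one (Nat.eq_one_of_dvd_coprimes hHall hqH hd)
  obtain ⟨S, hS⟩ := (IsPGroup.of_card (p := q) (n := k)
    (by rw [Nat.card_zpowers, hy] : Nat.card (zpowers y) = q ^ k)).exists_le_sylow
  obtain ⟨g, hg⟩ := MulAction.exists_smul_eq G ((R.2.map H.subtype).toSylow hidx) S
  refine ⟨g, map_subtype_le (R : Subgroup H) ?_⟩
  have h := hS (mem_zpowers y)
  rw [← hg, sylow_smul_coe, mem_map_conj] at h
  exact h

include hHall in
theorem mem_of_mem_normalizer_of_primes {k : G} (hkN : k ∈ normalizer (H : Set G))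
    (hk : ∀ q : ℕ, q.Prime → q ∣ orderOf k → q ∣ Nat.card H) : k ∈ H := by
  haveI : (H.subgroupOf (normalizer (H : Set G))).Normal := Subgroup.normal_in_normalizer
  have h : orderOf ((⟨k, hkN⟩ : normalizer (H : Set G)) :
      normalizer (H : Set G) ⧸ H.subgroupOf (normalizer (H : Set G))) = 1 := by
    refine Nat.eq_one_iff_not_exists_prime_dvd.2 fun q hq hd => ?_
    have h1 : q ∣ orderOf k := by
      have := hd.trans (orderOf_map_dvd (QuotientGroup.mk' _) _)
      rwa [Subgroup.orderOf_mk] at this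
    have h2 : q ∣ H.index :=
      (hd.trans (_root_.orderOf_dvd_natCard _)).trans (by
        rw [← Subgroup.index_eq_card]
        exact Dvd.intro _ (relIndex_mul_index le_normalizer))
    exact hq.ne_one (Nat.eq_one_of_dvd_coprimes hHall (hk q hq h1) h2)
  rw [orderOf_eq_one_iff, QuotientGroup.eq_one_iff, mem_subgroupOf] at h
  exact h

include hHall hTI in
theorem exists_conj_mem_of_primes {k : G} (hk1 : k ≠ 1)
    (hk : ∀ q : ℕ, q.Prime → q ∣ orderOf k → q ∣ Nat.card H) : ∃ g : G, g⁻¹ * k * g ∈ H := by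
  obtain ⟨q, hq, hdvd⟩ := Nat.exists_prime_and_dvd (mt orderOf_eq_one_iff.1 hk1)
  haveI := Fact.mk hq
  obtain ⟨a, b, ha, hb, hab, ⟨i, hi⟩, hcop⟩ := exists_pPart q k
  obtain ⟨g, hg⟩ := exists_conj_mem_of_prime_pow H hHall hq (hk q hq hdvd) hi
  have hne : g⁻¹ * a * g ≠ 1 := by
    intro h1
    have ha1 : a = 1 := by
      calc a = g * (g⁻¹ * a * g) * g⁻¹ := by group
        _ = 1 := by rw [h1]; group
    rw [ha1, one_mul] at hab
    rw [hab] at hcop
    exact (hq.coprime_iff_not_dvd.1 hcop.symm) hdvd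
  have hN : g⁻¹ * k * g ∈ normalizer (H : Set G) := by
    by_contra hnot
    refine hne (hTI _ hnot _ hg ?_)
    have hc : k * a * k⁻¹ = a := by
      obtain ⟨m, rfl⟩ := Subgroup.mem_zpowers_iff.1 ha
      group
    have : g⁻¹ * k * g * (g⁻¹ * a * g) * (g⁻¹ * k * g)⁻¹ = g⁻¹ * a * g := by
      calc g⁻¹ * k * g * (g⁻¹ * a * g) * (g⁻¹ * k * g)⁻¹ = g⁻¹ * (k * a * k⁻¹) * g := by group
        _ = _ := by rw [hc]
    rw [this]
    exact hg
  refine ⟨g, mem_of_mem_normalizer_of_primes H hHall hN fun r hr hd => hk r hr ?_⟩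
  have : orderOf (g⁻¹ * k * g) = orderOf k := by
    have := (MulAut.conj g⁻¹).orderOf_eq k
    simpa using this
  rwa [this] at hd

include hTI in
theorem conj_mem_iff_of_mem_inf {g g' y : G} (hy1 : y ≠ 1) (h1 : g⁻¹ * y * g ∈ H)
    (h2 : g'⁻¹ * y * g' ∈ H) : g⁻¹ * g' ∈ normalizer (H : Set G) := by
  by_contra hnot
  have h : g'⁻¹ * y * g' = 1 := by
    refine hTI _ hnot _ h2 ?_
    have : g⁻¹ * g' * (g'⁻¹ * y * g') * (g⁻¹ * g')⁻¹ = g⁻¹ * y * g := by group
    rwa [this]
  exact hy1 (by calc y = g' * (g'⁻¹ * y * g') * g'⁻¹ := by group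
    _ = 1 := by rw [h]; group)

include hHall hTI in
theorem exists_conj_le_of_primes (K : Subgroup G)
    (hK : ∀ q : ℕ, q.Prime → q ∣ Nat.card K → q ∣ Nat.card H) :
    ∃ g : G, K ≤ H.map (MulAut.conj g).toMonoidHom := by
  classical
  by_contra hcon
  push Not at hcon
  have hord : ∀ k ∈ K, ∀ q : ℕ, q.Prime → q ∣ orderOf k → q ∣ Nat.card H := fun k hk q hq hd =>
    hK q hq (hd.trans (Subgroup.orderOf_mk k hk ▸ _root_.orderOf_dvd_natCard _))
  -- pieces
  let A : G → Subgroup K := fun g => (H.map (MulAut.conj g).toMonoidHom).subgroupOf K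
  let f : ∀ g : G, (K ⧸ A g) × {a : A g // a ≠ 1} → {k : K // k ≠ 1} := fun g x =>
    ⟨x.1.out * x.2.1 * x.1.out⁻¹, fun h => x.2.2 (Subtype.ext (conj_eq_one_iff.1 h))⟩
  have hmem : ∀ g (x : (K ⧸ A g) × {a : A g // a ≠ 1}),
      ((x.1.out : K) * g : G)⁻¹ * (f g x).1 * ((x.1.out : K) * g) ∈ H := by
    intro g x
    have := mem_map_conj.1 (x.2.1.2 : ((x.2.1 : K) : G) ∈ H.map (MulAut.conj g).toMonoidHom)
    simpa [f, mul_assoc] using this
  have key : ∀ g (c : K), g⁻¹ * (c : G) * g ∈ normalizer (H : Set G) → c ∈ A g := by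
    intro g c hc
    show (c : G) ∈ H.map (MulAut.conj g).toMonoidHom
    rw [mem_map_conj]
    refine mem_of_mem_normalizer_of_primes H hHall hc fun r hr hd => hord _ c.2 r hr ?_
    have h := (MulAut.conj g⁻¹).orderOf_eq (c : G)
    simp only [MulAut.conj_apply, inv_inv] at h
    rwa [h] at hd
  have hinj : ∀ g, Function.Injective (f g) := by
    intro g x y hxy
    have h1 := hmem g x
    have h2 := hmem g y
    rw [← hxy] at h2
    have hne : ((f g x).1 : G) ≠ 1 := fun h => (f g x).2 (Subtype.ext h)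
    have hq : x.1 = y.1 := by
      have h3 : x.1.out⁻¹ * y.1.out ∈ A g := by
        refine key g _ ?_
        have := conj_mem_iff_of_mem_inf H hTI hne h1 h2
        simpa [mul_assoc] using this
      rw [← QuotientGroup.out_eq' x.1, ← QuotientGroup.out_eq' y.1]
      exact QuotientGroup.eq.2 h3
    refine Prod.ext hq (Subtype.ext (Subtype.ext ?_))
    have := congrArg Subtype.val hxy
    simp only [f, hq] at this
    exact mul_left_cancel (mul_right_cancel this)
  have hcard : ∀ g, Nat.card ((K ⧸ A g) × {a : A g // a ≠ 1}) + (A g).index = Nat.card K := by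
    intro g
    rw [Nat.card_prod, ← (A g).index_eq_card, ← (A g).card_mul_index, ← card_ne_one_subtype (A := A g)]
    ring
  have hproper : ∀ g, 2 ≤ (A g).index := by
    intro g
    have h0 : (A g).index ≠ 0 := Subgroup.index_ne_zero_of_finite
    have h1 : (A g).index ≠ 1 := fun h =>
      hcon g fun k hk => (Subgroup.index_eq_one.1 h ▸ Subgroup.mem_top (⟨k, hk⟩ : K) : (⟨k, hk⟩ : K) ∈ A g)
    omega
  have hhalf : ∀ g, A g ≠ ⊥ → 2 * (A g).index ≤ Nat.card K := by
    intro g hg
    rw [← (A g).card_mul_index]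
    exact Nat.mul_le_mul_right _ ((Subgroup.one_lt_card_iff_ne_bot _).2 hg)
  have hne : ∀ g (k : K), k ≠ 1 → g⁻¹ * (k : G) * g ∈ H → A g ≠ ⊥ := fun g k hk hg hbot =>
    hk (mem_bot.1 (hbot ▸ (mem_map_conj.2 hg : (k : G) ∈ H.map (MulAut.conj g).toMonoidHom)))
  -- a nontrivial element
  have hKne : ∃ k : K, k ≠ 1 := by
    by_contra h
    push Not at h
    refine hcon 1 fun k hk => ?_
    have := congrArg Subtype.val (h ⟨k, hk⟩)
    simp only [Subgroup.coe_one] at this
    rw [this]
    exact one_mem _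
  obtain ⟨k0, hk0⟩ := hKne
  obtain ⟨g0, hg0⟩ := exists_conj_mem_of_primes H hHall hTI
    (fun h => hk0 (Subtype.ext h)) (hord _ k0.2)
  have hns : ¬ Function.Surjective (f g0) := by
    intro hs
    have h1 := Nat.card_le_card_of_surjective _ hs
    have h2 := card_ne_one_subtype (A := K)
    have h3 := hcard g0
    have h4 := hproper g0
    omega
  simp only [Function.Surjective, not_forall, not_exists] at hns
  obtain ⟨k1, hk1⟩ := hns
  obtain ⟨g1, hg1⟩ := exists_conj_mem_of_primes H hHall hTI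
    (fun h => k1.2 (Subtype.ext h)) (hord _ k1.1.2)
  let F : ((K ⧸ A g0) × {a : A g0 // a ≠ 1}) ⊕ ((K ⧸ A g1) × {a : A g1 // a ≠ 1}) →
      {k : K // k ≠ 1} := Sum.elim (f g0) (f g1)
  have hF : Function.Injective F := by
    refine Function.Injective.sumElim (hinj g0) (hinj g1) fun x y hxy => ?_
    have h1 := hmem g0 x
    have h2 := hmem g1 y
    rw [← hxy] at h2
    have h3 := conj_mem_iff_of_mem_inf H hTI (fun h => (f g0 x).2 (Subtype.ext h)) h1 h2
    -- `k1` is a conjugate of an element of the first piece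
    set n := ((x.1.out : K) * g0 : G)⁻¹ * ((y.1.out : K) * g1) with hn
    set c : K := x.1.out⁻¹ * y.1.out
    set q : K ⧸ A g0 := ((c⁻¹ : K) : K ⧸ A g0)
    set d : K := q.out
    obtain ⟨a, ha, had⟩ : ∃ a ∈ A g0, d = c⁻¹ * a :=
      ⟨c * d, by
        have := QuotientGroup.eq.1 ((QuotientGroup.out_eq' q).trans rfl : (d : K ⧸ A g0) = (c⁻¹ : K))
        have h5 := inv_mem this
        simpa [mul_assoc] using h5, by group⟩
    have hmem' : d⁻¹ * k1.1 * d ∈ A g0 := by
      have h5 : ((c * k1.1 * c⁻¹ : K) : G) ∈ H.map (MulAut.conj g0).toMonoidHom := by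
        rw [mem_map_conj]
        have h6 := (Subgroup.mem_normalizer_iff.1 h3 _).1 hg1
        simpa [hn, c, mul_assoc] using h6
      have h7 : (c * k1.1 * c⁻¹ : K) ∈ A g0 := h5
      rw [had]
      have := mul_mem (mul_mem (inv_mem ha) h7) ha
      simpa [mul_assoc] using this
    refine hk1 ⟨q, ⟨⟨_, hmem'⟩, fun h => k1.2 ?_⟩⟩ (Subtype.ext ?_)
    · have := congrArg Subtype.val h
      simp only [Subgroup.coe_one] at this
      calc k1.1 = d * (d⁻¹ * k1.1 * d) * d⁻¹ := by group
        _ = 1 := by rw [this]; group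
    · show d * (d⁻¹ * k1.1 * d) * d⁻¹ = k1.1
      group
  have h1 := Nat.card_le_card_of_injective F hF
  rw [Nat.card_sum] at h1
  have h2 := card_ne_one_subtype (A := K)
  have h3 := hcard g0
  have h4 := hcard g1
  have h5 := hhalf g0 (hne g0 k0 hk0 hg0)
  have h6 := hhalf g1 (hne g1 k1.1 k1.2 hg1)
  omega

end Cfsg.Lib.Transfer
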