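/-
The theorem of Hall and Wielandt: a weakly closed subgroup `Q` of a Sylow `p`-subgroup satisfying
the Engel condition of length `p - 1` controls the largest `p`-quotient.
-/
import Cfsg.Prelude
import Cfsg.Agent.Transfer.Tate
import Cfsg.Agent.PGroups.Basic

set_option autoImplicit false
set_option linter.unusedSectionVars false
set_option linter.style.haveILetI false

namespace Cfsg.Lib.Transfer.HallWielandt

open Subgroup fwdDiff
open scoped commutatorElement

section Cocycle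

variable {G : Type*} [Group G] {H : Subgroup G} {A : Type*} [CommGroup A] (φ : H →* A)

theorem cval_mem (g : G) (ω : G ⧸ H) : (g • ω).out⁻¹ * g * ω.out ∈ H := by
  rw [mul_assoc, ← QuotientGroup.eq, QuotientGroup.out_eq']
  conv_lhs => rw [← QuotientGroup.out_eq' ω]
  rfl

/-- The cocycle whose product over all cosets is the transfer. -/
noncomputable def cval (g : G) (ω : G ⧸ H) : A := φ ⟨_, cval_mem g ω⟩

theorem cval_mul (g h : G) (ω : G ⧸ H) : cval φ (g * h) ω = cval φ g (h • ω) * cval φ h ω := by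
  rw [cval, cval, cval, ← map_mul]
  congr 1
  refine Subtype.ext ?_
  simp only [Subgroup.coe_mul, mul_smul]
  group

theorem cval_one (ω : G ⧸ H) : cval φ 1 ω = 1 := by
  have h := cval_mul φ 1 1 ω
  rw [one_mul, one_smul] at h
  exact left_eq_mul.1 h

theorem cval_of_fixed {g : G} {ω : G ⧸ H} (h : g • ω = ω) :
    ∃ hm : ω.out⁻¹ * g * ω.out ∈ H, cval φ g ω = φ ⟨_, hm⟩ := by
  have hm := cval_mem g ω
  rw [h] at hm
  refine ⟨hm, ?_⟩
  rw [cval]
  congr 1
  exact Subtype.ext (congrArg (fun x : G ⧸ H => x.out⁻¹ * g * ω.out) h)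

theorem cval_pow (g : G) (ω : G ⧸ H) : ∀ l : ℕ, cval φ (g ^ l) ω = ∏ i ∈ Finset.range l, cval φ g (g ^ i • ω)
  | 0 => by simp [cval_one]
  | l + 1 => by rw [pow_succ', cval_mul, cval_pow g ω l, Finset.prod_range_succ, mul_comm]

/-- The product of the cocycle over a set of cosets. -/
noncomputable def part (s : Finset (G ⧸ H)) (g : G) : A := ∏ ω ∈ s, cval φ g ω

theorem prod_smul_eq {M : Type*} [CommMonoid M] (f : G ⧸ H → M) {s : Finset (G ⧸ H)} {h : G} (hh : ∀ ω ∈ s, h • ω ∈ s) :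
    ∏ ω ∈ s, f (h • ω) = ∏ ω ∈ s, f ω := by
  classical
  have hs : s.image (fun ω => h • ω) = s :=
    Finset.eq_of_subset_of_card_le (Finset.image_subset_iff.2 hh)
      (Finset.card_image_of_injective _ (MulAction.injective h)).ge
  conv_rhs => rw [← hs, Finset.prod_image fun a _ b _ e => MulAction.injective h e]

theorem part_mul {s : Finset (G ⧸ H)} (g : G) {h : G} (hh : ∀ ω ∈ s, h • ω ∈ s) :
    part φ s (g * h) = part φ s g * part φ s h := by
  simp only [part, cval_mul, Finset.prod_mul_distrib, prod_smul_eq (cval φ g) hh]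

theorem part_image (z u m : G) (e : u * z = z * m) {s : Finset (G ⧸ H)} (hm : ∀ ω ∈ s, m • ω ∈ s)
    [DecidableEq (G ⧸ H)] :
    part φ (s.image fun ω => z • ω) u = part φ s m := by
  have key : ∀ ω, cval φ u (z • ω) = cval φ z (m • ω) * (cval φ z ω)⁻¹ * cval φ m ω := fun ω => by
    have h1 := cval_mul φ u z ω
    rw [e, cval_mul φ z m ω] at h1
    rw [mul_right_comm, h1, mul_inv_cancel_right]
  rw [part, Finset.prod_image fun a _ b _ h => MulAction.injective z h]
  simp only [key, Finset.prod_mul_distrib, Finset.prod_inv_distrib, prod_smul_eq (cval φ z) hm, mul_inv_cancel,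
    one_mul]
  rfl

theorem part_eq_one_of_no_fixed [Finite G] {p : ℕ} [hp : Fact p.Prime] {g : G} (hg : ∃ k, orderOf g = p ^ k)
    (hlow : ∀ l, p ∣ l → ∀ ω : G ⧸ H, g ^ l • ω = ω → cval φ (g ^ l) ω = 1) :
    ∀ (n : ℕ) (s : Finset (G ⧸ H)), s.card = n → (∀ ω ∈ s, g • ω ∈ s) → (∀ ω ∈ s, g • ω ≠ ω) → part φ s g = 1 := by
  classical
  intro n
  induction n using Nat.strong_induction_on with
  | _ n ih =>
    intro s hn hinv hfix
    rcases s.eq_empty_or_nonempty with rfl | ⟨ω, hω⟩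
    · simp [part]
    set l := MulAction.period g ω with hldef
    have hld : l ∣ orderOf g := MulAction.period_dvd_orderOf g ω
    have hl0 : 0 < l := Nat.pos_of_dvd_of_pos hld (orderOf_pos g)
    have hpl : p ∣ l := by
      obtain ⟨k, hk⟩ := hg
      obtain ⟨j, -, hj⟩ := (Nat.dvd_prime_pow hp.out).1 (hk ▸ hld)
      rcases j with - | j
      · refine absurd ?_ (hfix ω hω)
        have := MulAction.pow_period_smul g ω
        rwa [← hldef, hj, pow_zero, pow_one] at this
      · exact hj ▸ dvd_pow_self p (Nat.succ_ne_zero j)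
    set C := (Finset.range l).image fun i => g ^ i • ω with hC
    have hCs : C ⊆ s := by
      refine Finset.image_subset_iff.2 fun i hi' => ?_
      clear hi'
      induction i with
      | zero => simpa using hω
      | succ i hi => rw [pow_succ', mul_smul]; exact hinv _ hi
    have hinj : Set.InjOn (fun i => g ^ i • ω) (Finset.range l : Set ℕ) := by
      have aux : ∀ i j : ℕ, i < j → j < l → g ^ i • ω ≠ g ^ j • ω := by
        intro i j hij hj he
        have h1 : g ^ (j - i) • ω = ω := by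
          refine MulAction.injective (g ^ i) ?_
          show g ^ i • g ^ (j - i) • ω = g ^ i • ω
          rw [← mul_smul, ← pow_add, show i + (j - i) = j by omega]
          exact he.symm
        have := Nat.le_of_dvd (by omega) ((MulAction.pow_smul_eq_iff_period_dvd).1 h1)
        omega
      intro i hi j hj he
      simp only [Finset.coe_range, Set.mem_Iio] at hi hj
      rcases lt_trichotomy i j with hij | hij | hij
      · exact absurd he (aux i j hij hj)
      · exact hij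
      · exact absurd he.symm (aux j i hij hi)
    have hC1 : part φ C g = 1 := by
      rw [part, hC, Finset.prod_image hinj, ← cval_pow]
      exact hlow l hpl ω (MulAction.pow_period_smul g ω)
    have hC' : ∀ x, g • x ∈ C → x ∈ C := by
      intro x hx
      obtain ⟨i, hi, he⟩ := Finset.mem_image.1 hx
      refine Finset.mem_image.2 ⟨(i + (l - 1)) % l, Finset.mem_range.2 (Nat.mod_lt _ hl0), ?_⟩
      rw [MulAction.pow_mod_period_smul]
      refine MulAction.injective g ?_
      show g • g ^ (i + (l - 1)) • ω = g • x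
      rw [← mul_smul, ← pow_succ', show i + (l - 1) + 1 = i + l by omega, pow_add, mul_smul,
        MulAction.pow_period_smul, he]
    have hcard : (s \ C).card < n := by
      rw [← hn]
      refine Finset.card_lt_card (Finset.sdiff_ssubset hCs ⟨ω, Finset.mem_image.2 ⟨0, Finset.mem_range.2 hl0, by simp⟩⟩)
    have h2 : part φ (s \ C) g = 1 := ih _ hcard _ rfl
      (fun x hx => Finset.mem_sdiff.2 ⟨hinv x (Finset.mem_sdiff.1 hx).1, fun h => (Finset.mem_sdiff.1 hx).2 (hC' x h)⟩)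
      (fun x hx => hfix x (Finset.mem_sdiff.1 hx).1)
    rw [part, ← Finset.prod_sdiff hCs]
    show part φ (s \ C) g * part φ C g = 1
    rw [h2, hC1, one_mul]

theorem choose_pred_cast (p : ℕ) [hp : Fact p.Prime] : ∀ k ≤ p - 1, (((p - 1).choose k : ℕ) : ZMod p) = (-1) ^ k
  | 0, _ => by simp
  | k + 1, hk => by
    have h1 : p.choose (k + 1) = (p - 1).choose k + (p - 1).choose (k + 1) := by
      conv_lhs => rw [show p = p - 1 + 1 from (Nat.succ_pred_eq_of_pos hp.out.pos).symm, Nat.choose_succ_succ]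
    have h3 : ((p.choose (k + 1) : ℕ) : ZMod p) = 0 :=
      (ZMod.natCast_eq_zero_iff _ _).2 (hp.out.dvd_choose_self (Nat.succ_ne_zero k) (by omega))
    have h4 := congrArg (fun n : ℕ => (n : ZMod p)) h1
    simp only [Nat.cast_add, h3, choose_pred_cast p k (by omega)] at h4
    rw [pow_succ]
    linear_combination -h4

theorem fwdDiff_iter_eq_sum {B : Type*} [AddCommGroup B] (p : ℕ) [hp : Fact p.Prime] (hB : ∀ x : B, p • x = 0)
    (F : ℕ → B) : (fwdDiff 1)^[p - 1] F 0 = ∑ i ∈ Finset.range p, F i := by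
  rw [fwdDiff_iter_eq_sum_shift, show p - 1 + 1 = p from Nat.succ_pred_eq_of_pos hp.out.pos]
  refine Finset.sum_congr rfl fun k hk => ?_
  have hk' : k ≤ p - 1 := Nat.le_sub_one_of_lt (Finset.mem_range.1 hk)
  have h1 : (((-1 : ℤ) ^ (p - 1 - k) * ((p - 1).choose k : ℕ) : ℤ) : ZMod p) = ((1 : ℤ) : ZMod p) := by
    push_cast
    rw [choose_pred_cast p k hk', ← pow_add, show p - 1 - k + k = p - 1 by omega]
    exact ZMod.pow_card_sub_one_eq_one (neg_ne_zero.2 one_ne_zero)
  obtain ⟨e, he⟩ := (ZMod.intCast_eq_intCast_iff_dvd_sub _ _ _).1 h1.symm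
  rw [show ((-1 : ℤ) ^ (p - 1 - k) * ((p - 1).choose k : ℕ)) = 1 + e * p by linear_combination he, add_smul,
    one_smul, mul_smul, natCast_zsmul, hB, smul_zero, add_zero, smul_eq_mul, mul_one, zero_add]

variable [Finite G] {p : ℕ} [hp : Fact p.Prime]

/-- The contribution of a nontrivial orbit of `S = Q⟨u⟩`. -/
theorem part_orbit_eq_one (hA : ∀ a : A, a ^ p = 1) {S Q : Subgroup G} (hS : IsPGroup p S) {u : G} (hu : u ∈ S)
    (hSQ : S = Q ⊔ zpowers u)
    (hEngel : ∀ y ∈ S, ∀ z ∈ Q, (fun y : G => y⁻¹ * z⁻¹ * y * z)^[p - 1] y = 1)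
    (hlow : ∀ l, p ∣ l → ∀ ω : G ⧸ H, u ^ l • ω = ω → cval φ (u ^ l) ω = 1) (ω₀ : G ⧸ H)
    (hmove : ∃ q ∈ Q, q • ω₀ ≠ ω₀) (O : Finset (G ⧸ H)) (hO : ∀ x, x ∈ O ↔ ∃ s ∈ S, s • ω₀ = x) :
    part φ O u = 1 := by
  classical
  have := Fintype.ofFinite (G ⧸ H)
  set R : Subgroup S := (MulAction.stabilizer G ω₀).subgroupOf S with hR
  have hRtop : R ≠ ⊤ := fun h => by
    obtain ⟨q, hq, hne⟩ := hmove
    exact hne (MulAction.mem_stabilizer_iff.1 (subgroupOf_eq_top.1 h (hSQ.ge (mem_sup_left hq))))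
  obtain ⟨M, hM, hRM⟩ := (eq_top_or_exists_le_coatom R).resolve_left hRtop
  obtain ⟨hMn, hMi⟩ := Cfsg.Lib.PGroups.coatom_normal_index hS hM
  have hupow : ∃ k, orderOf u = p ^ k := by
    obtain ⟨k, hk⟩ := IsPGroup.iff_orderOf.1 hS ⟨u, hu⟩
    exact ⟨k, by rw [← hk, Subgroup.orderOf_mk]⟩
  have hOinv : ∀ s ∈ S, ∀ x ∈ O, s • x ∈ O := fun s hs x hx => by
    obtain ⟨t, ht, rfl⟩ := (hO x).1 hx
    exact (hO _).2 ⟨s * t, mul_mem hs ht, mul_smul s t ω₀⟩
  by_cases huM : (⟨u, hu⟩ : S) ∈ M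
  swap
  · refine part_eq_one_of_no_fixed φ hupow hlow _ O rfl (hOinv u hu) fun x hx he => huM ?_
    obtain ⟨s, hs, rfl⟩ := (hO x).1 hx
    have h1 : (⟨s, hs⟩ : S)⁻¹ * ⟨u, hu⟩ * ⟨s, hs⟩ ∈ R := by
      rw [hR, mem_subgroupOf, MulAction.mem_stabilizer_iff]
      show (s⁻¹ * u * s) • ω₀ = ω₀
      rw [mul_smul, mul_smul, he, inv_smul_smul]
    have h2 := hMn.conj_mem _ (hRM h1) ⟨s, hs⟩
    rwa [show (⟨s, hs⟩ : S) * ((⟨s, hs⟩ : S)⁻¹ * ⟨u, hu⟩ * ⟨s, hs⟩) * (⟨s, hs⟩ : S)⁻¹ = ⟨u, hu⟩ by group] at h2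
  obtain ⟨z, hz, hzS, hzM⟩ : ∃ z, z ∈ Q ∧ ∃ hzS : z ∈ S, (⟨z, hzS⟩ : S) ∉ M := by
    by_contra hcon
    push_neg at hcon
    refine hM.1 (eq_top_iff.2 fun x _ => ?_)
    have hle : S ≤ M.map S.subtype := hSQ.le.trans (sup_le
      (fun q hq => ⟨⟨q, hSQ.ge (mem_sup_left hq)⟩, hcon q hq _, rfl⟩)
      (zpowers_le.2 ⟨⟨u, hu⟩, huM, rfl⟩))
    obtain ⟨y, hy, hyx⟩ := hle x.2
    rwa [S.subtype_injective hyx] at hy
  set O₀ : Finset (G ⧸ H) := Finset.univ.filter fun x => ∃ m ∈ M, ((m : S) : G) • ω₀ = x with hO₀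
  have hO₀inv : ∀ m ∈ M, ∀ x ∈ O₀, ((m : S) : G) • x ∈ O₀ := fun m hm x hx => by
    obtain ⟨m', hm', rfl⟩ := (Finset.mem_filter.1 hx).2
    exact Finset.mem_filter.2 ⟨Finset.mem_univ _, m * m', mul_mem hm hm', by rw [Subgroup.coe_mul, mul_smul]⟩
  set zS : S := ⟨z, hzS⟩
  have hcard : Nat.card (S ⧸ M) = p := by rw [← M.index_eq_card, hMi]
  have hord : orderOf (zS : S ⧸ M) = p := by
    refine orderOf_eq_prime ?_ fun h => hzM ((QuotientGroup.eq_one_iff zS).1 h)
    rw [← hcard]; exact pow_card_eq_one'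
  have hOeq : O = (Finset.range p).biUnion fun i => O₀.image fun x => z ^ i • x := by
    ext x
    simp only [Finset.mem_biUnion, Finset.mem_range, Finset.mem_image]
    constructor
    · intro hx
      obtain ⟨s, hs, rfl⟩ := (hO x).1 hx
      have h1 : ((⟨s, hs⟩ : S) : S ⧸ M) ∈ zpowers (zS : S ⧸ M) :=
        mem_zpowers_of_prime_card (p := p) hcard (fun h => hzM ((QuotientGroup.eq_one_iff zS).1 h))
      obtain ⟨i, hi⟩ := ((isOfFinOrder_of_finite (zS : S ⧸ M)).mem_powers_iff_mem_zpowers).2 h1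
      have hi' : (zS : S ⧸ M) ^ (i % p) = ((⟨s, hs⟩ : S) : S ⧸ M) := by
        rw [← hord, pow_mod_orderOf]; exact hi
      rw [← QuotientGroup.mk_pow, QuotientGroup.eq] at hi'
      refine ⟨i % p, Nat.mod_lt _ hp.out.pos, _, Finset.mem_filter.2 ⟨Finset.mem_univ _, _, hi', rfl⟩, ?_⟩
      rw [← mul_smul]
      congr 1
      simp [zS, mul_assoc]
    · rintro ⟨i, -, y, hy, rfl⟩
      obtain ⟨m, -, rfl⟩ := (Finset.mem_filter.1 hy).2
      exact (hO _).2 ⟨z ^ i * m, mul_mem (pow_mem hzS i) m.2, mul_smul _ _ _⟩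
  have hdisj : Set.PairwiseDisjoint (Finset.range p : Set ℕ) fun i => O₀.image fun x => z ^ i • x := by
    intro i hi j hj hij
    simp only [Finset.coe_range, Set.mem_Iio] at hi hj
    refine Finset.disjoint_left.2 fun x hx1 hx2 => hij ?_
    obtain ⟨a, ha, rfl⟩ := Finset.mem_image.1 hx1
    obtain ⟨b, hb, hbe⟩ := Finset.mem_image.1 hx2
    obtain ⟨m, hm, rfl⟩ := (Finset.mem_filter.1 ha).2
    obtain ⟨n, hn, rfl⟩ := (Finset.mem_filter.1 hb).2
    have h1 : (zS ^ j * n)⁻¹ * (zS ^ i * m) ∈ M := by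
      refine hRM ?_
      rw [hR, mem_subgroupOf, MulAction.mem_stabilizer_iff]
      show ((z ^ j * (n : G))⁻¹ * (z ^ i * (m : G))) • ω₀ = ω₀
      rw [mul_smul, mul_smul, ← hbe, ← mul_smul (z ^ j), inv_smul_smul]
    have h2 := QuotientGroup.eq.2 h1
    rw [QuotientGroup.mk_mul, QuotientGroup.mk_mul, (QuotientGroup.eq_one_iff n).2 hn,
      (QuotientGroup.eq_one_iff m).2 hm, mul_one, mul_one, QuotientGroup.mk_pow, QuotientGroup.mk_pow] at h2
    exact (pow_injOn_Iio_orderOf (by rwa [hord] : j ∈ Set.Iio (orderOf (zS : S ⧸ M)))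
      (by rwa [hord] : i ∈ Set.Iio (orderOf (zS : S ⧸ M))) h2).symm
  -- conjugates inside `M`
  set MG : Subgroup G := M.map S.subtype
  have hconj : ∀ y ∈ MG, ∀ i : ℕ, (z ^ i)⁻¹ * y * z ^ i ∈ MG := by
    rintro _ ⟨y, hy, rfl⟩ i
    exact ⟨(zS ^ i)⁻¹ * y * zS ^ i, by simpa using hMn.conj_mem y hy (zS ^ i)⁻¹, rfl⟩
  have hinvG : ∀ y ∈ MG, ∀ x ∈ O₀, y • x ∈ O₀ := by
    rintro _ ⟨y, hy, rfl⟩ x hx
    exact hO₀inv y hy x hx
  let F : G → ℕ → Additive A := fun y i => Additive.ofMul (part φ O₀ ((z ^ i)⁻¹ * y * z ^ i))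
  let D : G → G := fun y => y⁻¹ * z⁻¹ * y * z
  have hD : ∀ y ∈ MG, D y ∈ MG := fun y hy => by
    have := mul_mem (inv_mem hy) (hconj y hy 1)
    simpa [D, mul_assoc] using this
  have hstep : ∀ y ∈ MG, Δ_[1] (F y) = F (D y) := fun y hy => funext fun i => by
    show F y (i + 1) - F y i = F (D y) i
    have e : (z ^ i)⁻¹ * D y * z ^ i = ((z ^ i)⁻¹ * y * z ^ i)⁻¹ * ((z ^ (i + 1))⁻¹ * y * z ^ (i + 1)) := by
      simp only [D, pow_succ']
      group
    have e1 : part φ O₀ (((z ^ i)⁻¹ * y * z ^ i)⁻¹) = (part φ O₀ ((z ^ i)⁻¹ * y * z ^ i))⁻¹ := by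
      refine eq_inv_of_mul_eq_one_left ?_
      rw [← part_mul φ _ (hinvG _ (hconj y hy i)), inv_mul_cancel]
      simp [part, cval_one]
    simp only [F]
    rw [e, part_mul φ _ (hinvG _ (hconj y hy (i + 1))), e1, ← ofMul_div, div_eq_inv_mul]
  have hiter : ∀ n, ∀ y ∈ MG, (fwdDiff 1)^[n] (F y) = F (D^[n] y) := by
    intro n
    induction n with
    | zero => exact fun y _ => rfl
    | succ n ihn =>
      intro y hy
      rw [Function.iterate_succ_apply, hstep y hy, ihn _ (hD y hy), Function.iterate_succ_apply]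
  have h0 : ∑ i ∈ Finset.range p, F u i = 0 := by
    rw [← fwdDiff_iter_eq_sum p (fun x => congrArg Additive.ofMul (hA (Additive.toMul x))) (F u),
      hiter _ u ⟨⟨u, hu⟩, huM, rfl⟩]
    show Additive.ofMul (part φ O₀ ((z ^ 0)⁻¹ * D^[p - 1] u * z ^ 0)) = 0
    rw [show D^[p - 1] u = 1 from hEngel u hu z hz]
    simp [part, cval_one]
  rw [part, hOeq, Finset.prod_biUnion hdisj]
  refine Additive.ofMul.injective ?_
  rw [ofMul_prod, ofMul_one]
  refine Eq.trans (Finset.sum_congr rfl fun i _ => ?_) h0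
  show Additive.ofMul (part φ (O₀.image fun x => z ^ i • x) u) = _
  rw [part_image φ (z ^ i) u _ (by group) (hinvG _ (hconj u ⟨⟨u, hu⟩, huM, rfl⟩ i))]

end Cocycle

variable {G : Type*} [Group G] [Finite G] {p : ℕ} [hp : Fact p.Prime]

theorem le_normalizer_of_weaklyClosed {P Q : Subgroup G} (hQ : Cfsg.IsWeaklyClosed Q P) :
    P ≤ normalizer (Q : Set G) := fun x hx =>
  Subgroup.mem_normalizer_iff_map_conj_eq.2 (hQ.2 x (map_le_iff_le_comap.2 fun y hy =>
    mul_mem (mul_mem hx (hQ.1 hy)) (inv_mem hx)))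

/-- The transfer into `A` agrees with `φ` on the Sylow subgroup. -/
theorem transfer_eq (P : Sylow p G) {Q : Subgroup G} (hQ : Cfsg.IsWeaklyClosed Q (P : Subgroup G))
    (h : ∀ u ∈ (P : Subgroup G), ∀ z ∈ Q, (fun y : G => y⁻¹ * z⁻¹ * y * z)^[p - 1] u = 1)
    {A : Type*} [CommGroup A] (hA : ∀ a : A, a ^ p = 1) (φ : normalizer (Q : Set G) →* A) :
    ∃ T : G →* A, ∀ (u : G) (hu : u ∈ (P : Subgroup G)),
      T u = φ ⟨u, le_normalizer_of_weaklyClosed hQ hu⟩ := by
  classical
  have hPH := le_normalizer_of_weaklyClosed hQ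
  have := Fintype.ofFinite (G ⧸ normalizer (Q : Set G))
  let T : G →* A := MonoidHom.mk' (part φ Finset.univ) fun a b => part_mul φ a fun ω _ => Finset.mem_univ _
  refine ⟨T, ?_⟩
  suffices H' : ∀ n, ∀ (u : G) (hu : u ∈ (P : Subgroup G)), orderOf u = n → T u = φ ⟨u, hPH hu⟩ from
    fun u hu => H' _ u hu rfl
  intro n
  induction n using Nat.strong_induction_on with
  | _ n ih =>
    intro u hu hn
    rcases eq_or_ne u 1 with rfl | hu1
    · rw [map_one]
      exact (map_one φ).symm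
    obtain ⟨k, hk⟩ : ∃ k, orderOf u = p ^ k := by
      obtain ⟨k, hk⟩ := IsPGroup.iff_orderOf.1 P.2 ⟨u, hu⟩
      exact ⟨k, by rw [← hk, Subgroup.orderOf_mk]⟩
    have hk0 : k ≠ 0 := fun h0 => hu1 (orderOf_eq_one_iff.1 (by rw [hk, h0, pow_zero]))
    have hlow : ∀ l, p ∣ l → ∀ ω : G ⧸ normalizer (Q : Set G), u ^ l • ω = ω → cval φ (u ^ l) ω = 1 := by
      intro l hl ω hfix
      obtain ⟨hm, e⟩ := cval_of_fixed φ hfix
      rw [e]
      set y : normalizer (Q : Set G) := ⟨_, hm⟩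
      have hyo : orderOf y = orderOf (u ^ l) := by
        rw [Subgroup.orderOf_mk]
        rw [← orderOf_injective (MulAut.conj ω.out⁻¹).toMonoidHom (MulAut.conj ω.out⁻¹).injective (u ^ l)]
        simp
      have hlt : orderOf (u ^ l) < n := by
        rw [← hn, orderOf_pow, hk]
        refine Nat.div_lt_self (pow_pos hp.out.pos k) (lt_of_lt_of_le hp.out.one_lt ?_)
        exact Nat.le_of_dvd (Nat.gcd_pos_of_pos_left _ (pow_pos hp.out.pos k)) (Nat.dvd_gcd (dvd_pow_self p hk0) hl)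
      have hpow : ∃ j, orderOf (u ^ l) = p ^ j := by
        obtain ⟨j, -, hj⟩ := (Nat.dvd_prime_pow hp.out).1 (hk ▸ orderOf_pow_dvd (x := u) l)
        exact ⟨j, hj⟩
      obtain ⟨j, hj⟩ := hpow
      obtain ⟨S, hS⟩ := (IsPGroup.of_card (G := zpowers y) (p := p) (n := j)
        (by rw [Nat.card_zpowers, hyo, hj])).exists_le_sylow
      obtain ⟨c, hc⟩ := MulAction.exists_smul_eq (normalizer (Q : Set G)) S (P.subtype hPH)
      have hy' : c * y * c⁻¹ ∈ ((c • S : Sylow p (normalizer (Q : Set G))) : Subgroup _) :=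
        ⟨y, hS (mem_zpowers y), rfl⟩
      rw [hc] at hy'
      have hy'P : ((c * y * c⁻¹ : normalizer (Q : Set G)) : G) ∈ (P : Subgroup G) := hy'
      have h1 := ih _ (lt_of_eq_of_lt (by
        rw [Subgroup.orderOf_coe, ← hyo]
        exact orderOf_injective (MulAut.conj c).toMonoidHom (MulAut.conj c).injective y) hlt) _ hy'P rfl
      have h2 : φ ⟨_, hPH hy'P⟩ = φ y := by
        rw [show (⟨_, hPH hy'P⟩ : normalizer (Q : Set G)) = c * y * c⁻¹ from rfl, map_mul, map_mul, map_inv,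
          mul_inv_cancel_comm]
      rw [h2] at h1
      rw [← h1]
      obtain ⟨l', rfl⟩ := hl
      show T ((c : G) * ((ω.out)⁻¹ * u ^ (p * l') * ω.out) * (c : G)⁻¹) = 1
      rw [map_mul, map_mul, map_mul, map_mul, map_inv, map_inv, mul_inv_cancel_comm, mul_assoc, mul_comm (T (u ^ _)),
        inv_mul_cancel_left, map_pow, pow_mul, hA, one_pow]
    set S : Subgroup G := Q ⊔ zpowers u with hSdef
    have hSP : S ≤ (P : Subgroup G) := sup_le hQ.1 (zpowers_le.2 hu)
    set base : G ⧸ normalizer (Q : Set G) := ((1 : G) : G ⧸ normalizer (Q : Set G)) with hbase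
    have hbfix : ∀ s ∈ S, s • base = base := fun s hs => by
      show ((s * 1 : G) : G ⧸ normalizer (Q : Set G)) = ((1 : G) : G ⧸ normalizer (Q : Set G))
      rw [mul_one, QuotientGroup.eq, mul_one]
      exact inv_mem (hPH (hSP hs))
    have hrest : ∀ (m : ℕ) (s : Finset (G ⧸ normalizer (Q : Set G))), s.card = m → base ∉ s →
        (∀ t ∈ S, ∀ ω ∈ s, t • ω ∈ s) → part φ s u = 1 := by
      intro m
      induction m using Nat.strong_induction_on with
      | _ m ihm =>
        intro s hm hb hinv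
        rcases s.eq_empty_or_nonempty with rfl | ⟨ω, hω⟩
        · simp [part]
        let O : Finset (G ⧸ normalizer (Q : Set G)) := Finset.univ.filter fun x => ∃ t ∈ S, t • ω = x
        have hOs : O ⊆ s := fun x hx => by
          obtain ⟨t, ht, rfl⟩ := (Finset.mem_filter.1 hx).2
          exact hinv t ht ω hω
        have hmove : ∃ q ∈ Q, q • ω ≠ ω := by
          by_contra hcon
          push_neg at hcon
          have hQH : Q.map (MulAut.conj ω.out⁻¹).toMonoidHom ≤ normalizer (Q : Set G) := by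
            rintro _ ⟨q, hq, rfl⟩
            have := cval_mem q ω
            rw [hcon q hq] at this
            simpa using this
          have hQp : IsPGroup p ((Q.map (MulAut.conj ω.out⁻¹).toMonoidHom).subgroupOf (normalizer (Q : Set G))) :=
            ((IsPGroup.to_le P.2 hQ.1).map _).of_equiv (subgroupOfEquivOfLe hQH).symm
          obtain ⟨W, hW⟩ := hQp.exists_le_sylow
          obtain ⟨c, hc⟩ := MulAction.exists_smul_eq (normalizer (Q : Set G)) W (P.subtype hPH)
          have hle : Q.map (MulAut.conj ((c : G) * ω.out⁻¹)).toMonoidHom ≤ (P : Subgroup G) := by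
            rintro _ ⟨q, hq, rfl⟩
            have h1 : c * ⟨_, hQH ⟨q, hq, rfl⟩⟩ * c⁻¹ ∈ ((c • W : Sylow p (normalizer (Q : Set G))) : Subgroup _) :=
              ⟨_, hW (show (MulAut.conj ω.out⁻¹).toMonoidHom q ∈ Q.map (MulAut.conj ω.out⁻¹).toMonoidHom from
                ⟨q, hq, rfl⟩), rfl⟩
            rw [hc] at h1
            have h2 : (c : G) * ((MulAut.conj ω.out⁻¹).toMonoidHom q) * (c : G)⁻¹ ∈ (P : Subgroup G) := h1
            simpa [mul_assoc] using h2
          have h3 : (c : G) * ω.out⁻¹ ∈ normalizer (Q : Set G) :=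
            Subgroup.mem_normalizer_iff_map_conj_eq.2 (hQ.2 _ hle)
          have h4 : ω.out⁻¹ ∈ normalizer (Q : Set G) := by simpa using mul_mem (inv_mem c.2) h3
          refine hb ?_
          have : base = ω := by
            rw [← QuotientGroup.out_eq' ω, hbase, QuotientGroup.eq, inv_one, one_mul]
            exact inv_mem_iff.1 h4
          rwa [this]
        have hO1 : part φ O u = 1 := part_orbit_eq_one φ hA (P.2.to_le hSP) (mem_sup_right (mem_zpowers u)) rfl
          (fun y hy z hz => h y (hSP hy) z hz) hlow ω hmove O (fun x => by simp [O])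
        have hcard : (s \ O).card < m := hm ▸ Finset.card_lt_card (Finset.sdiff_ssubset hOs
          ⟨ω, Finset.mem_filter.2 ⟨Finset.mem_univ _, 1, one_mem _, one_smul _ _⟩⟩)
        have h2 : part φ (s \ O) u = 1 := ihm _ hcard _ rfl (fun hb' => hb (Finset.mem_sdiff.1 hb').1)
          fun t ht x hx => Finset.mem_sdiff.2 ⟨hinv t ht x (Finset.mem_sdiff.1 hx).1, fun hx' => by
            obtain ⟨r, hr, he⟩ := (Finset.mem_filter.1 hx').2
            exact (Finset.mem_sdiff.1 hx).2 (Finset.mem_filter.2 ⟨Finset.mem_univ _, t⁻¹ * r, mul_mem (inv_mem ht) hr,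
              by rw [mul_smul, he, inv_smul_smul]⟩)⟩
        rw [part, ← Finset.prod_sdiff hOs]
        show part φ (s \ O) u * part φ O u = 1
        rw [h2, hO1, one_mul]
    show part φ Finset.univ u = _
    rw [part, ← Finset.mul_prod_erase _ _ (Finset.mem_univ base)]
    show cval φ u base * part φ (Finset.univ.erase base) u = _
    rw [hrest _ _ rfl (Finset.notMem_erase _ _) fun t ht x hx => Finset.mem_erase.2
      ⟨fun he => (Finset.mem_erase.1 hx).1 (MulAction.injective t (he.trans (hbfix t ht).symm)), Finset.mem_univ _⟩,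
      mul_one]
    obtain ⟨hm, e⟩ := cval_of_fixed φ (hbfix u (mem_sup_right (mem_zpowers u)))
    have hout : base.out ∈ normalizer (Q : Set G) := by
      have h1 : ((1 : G) : G ⧸ normalizer (Q : Set G)) = (base.out : G ⧸ normalizer (Q : Set G)) :=
        (QuotientGroup.out_eq' base).symm
      rw [QuotientGroup.eq, inv_one, one_mul] at h1
      exact h1
    rw [e, show (⟨_, hm⟩ : normalizer (Q : Set G)) = ⟨_, hout⟩⁻¹ * ⟨u, hPH hu⟩ * ⟨_, hout⟩ from rfl, map_mul, map_mul,
      map_inv, mul_comm, mul_inv_cancel_left]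

theorem isPGroup_pResidual_idem_top :
    Cfsg.pResidual p (Cfsg.pResidual p G : Subgroup G) = ⊤ := by
  rw [eq_top_iff, ← Subgroup.map_le_map_iff_of_injective (Cfsg.pResidual p G).subtype_injective,
    ← MonoidHom.range_eq_map, range_subtype]
  refine (closure_le _).2 fun x hx => ⟨⟨x, mem_pResidual_of_coprime hx⟩, subset_closure ?_, rfl⟩
  show (orderOf (⟨x, _⟩ : Cfsg.pResidual p G)).Coprime p
  rw [Subgroup.orderOf_mk]
  exact hx

/-- **Hall–Wielandt**. -/
theorem pResidualOf_eq (P : Sylow p G) (Q : Subgroup G) (hQ : Cfsg.IsWeaklyClosed Q (P : Subgroup G))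
    (h : ∀ u ∈ (P : Subgroup G), ∀ z ∈ Q, (fun y : G => y⁻¹ * z⁻¹ * y * z)^[p - 1] u = 1) :
    Cfsg.pResidualOf p (normalizer (Q : Set G)) = Cfsg.pResidual p G ⊓ normalizer (Q : Set G) := by
  classical
  set H := normalizer (Q : Set G) with hH
  have hPH : (P : Subgroup G) ≤ H := le_normalizer_of_weaklyClosed hQ
  set N := Cfsg.pResidual p H
  have hle : Cfsg.pResidualOf p H ≤ Cfsg.pResidual p G := pResidual_map_le H.subtype
  set f : P →* H ⧸ N := (QuotientGroup.mk' N).comp (Subgroup.inclusion hPH) with hf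
  have hfs : Function.Surjective f := by
    intro q
    obtain ⟨x, rfl⟩ := QuotientGroup.mk_surjective q
    have hx : x ∈ N ⊔ ((P.subtype hPH : Sylow p H) : Subgroup H) :=
      (pResidual_sup_sylow (P.subtype hPH)).ge (mem_top x)
    obtain ⟨a, ha, b, hb, rfl⟩ := mem_sup_of_normal_left.1 hx
    refine ⟨⟨b, hb⟩, ?_⟩
    show ((b : H) : H ⧸ N) = ((a * b : H) : H ⧸ N)
    rw [QuotientGroup.mk_mul, (QuotientGroup.eq_one_iff a).2 ha, one_mul]
  haveI : (frattini P).map f |>.Normal := Subgroup.Normal.map inferInstance f hfs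
  set Φ' := (frattini P).map f
  have hpow : ∀ q : (H ⧸ N) ⧸ Φ', q ^ p = 1 := by
    intro q
    obtain ⟨b, rfl⟩ := QuotientGroup.mk_surjective q
    obtain ⟨x, rfl⟩ := hfs b
    rw [← QuotientGroup.mk_pow, QuotientGroup.eq_one_iff, ← map_pow]
    exact mem_map_of_mem f (Cfsg.Lib.PGroups.pow_mem_frattini P.2 x)
  have hcom : ∀ a b : (H ⧸ N) ⧸ Φ', a * b = b * a := by
    intro a b
    obtain ⟨a, rfl⟩ := QuotientGroup.mk_surjective a
    obtain ⟨b, rfl⟩ := QuotientGroup.mk_surjective b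
    obtain ⟨x, rfl⟩ := hfs a
    obtain ⟨y, rfl⟩ := hfs b
    rw [← QuotientGroup.mk_mul, ← QuotientGroup.mk_mul, QuotientGroup.eq, ← map_mul, ← map_mul, ← map_inv, ← map_mul]
    refine mem_map_of_mem f (Cfsg.Lib.PGroups.commutator_le_frattini P.2 ?_)
    have e : (x * y)⁻¹ * (y * x) = ⁅y⁻¹, x⁻¹⁆ := by rw [commutatorElement_def]; group
    rw [e, _root_.commutator_def]
    exact commutator_mem_commutator (mem_top _) (mem_top _)
  letI : CommGroup ((H ⧸ N) ⧸ Φ') := CommGroup.mk hcom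
  let φ : H →* (H ⧸ N) ⧸ Φ' := (QuotientGroup.mk' Φ').comp (QuotientGroup.mk' N)
  obtain ⟨T, hT⟩ := transfer_eq P hQ h hpow φ
  have hker : Cfsg.pResidual p G ≤ T.ker := (closure_le _).2 fun x hx => by
    rw [SetLike.mem_coe, MonoidHom.mem_ker, ← orderOf_eq_one_iff]
    exact Nat.eq_one_of_dvd_coprimes hx (orderOf_map_dvd T x) (orderOf_dvd_of_pow_eq_one (hpow (T x)))
  set K := Cfsg.pResidual p G
  have hR : f.ker = K.subgroupOf (P : Subgroup G) := by
    refine subgroupOf_sylow_eq_of_le_frattini_sup P K isPGroup_pResidual_idem_top f.ker (fun x hx => ?_) (fun x hx => ?_)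
    · exact hle ⟨_, (QuotientGroup.eq_one_iff _).1 hx, rfl⟩
    · have h1 : φ ⟨(x : G), hPH x.2⟩ = 1 := by rw [← hT (x : G) x.2]; exact hker hx
      have h2 : f x ∈ Φ' := (QuotientGroup.eq_one_iff (f x)).1 h1
      obtain ⟨y, hy, hyx⟩ := h2
      have : x = y * (y⁻¹ * x) := by group
      rw [this]
      exact mul_mem (mem_sup_left hy) (mem_sup_right (by rw [MonoidHom.mem_ker, map_mul, map_inv, hyx, inv_mul_cancel]))
  refine le_antisymm (le_inf hle (map_subtype_le _)) fun x hx => ?_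
  obtain ⟨hxK, hxH⟩ := Subgroup.mem_inf.1 hx
  obtain ⟨y, hy⟩ := hfs ((⟨x, hxH⟩ : H) : H ⧸ N)
  have h3 : (⟨(y : G), hPH y.2⟩ : H)⁻¹ * ⟨x, hxH⟩ ∈ N := QuotientGroup.eq.1 hy
  have h4 : (y : G)⁻¹ * x ∈ Cfsg.pResidualOf p H := ⟨_, h3, rfl⟩
  have hyK : (y : G) ∈ K := by
    have := mul_mem hxK (inv_mem (hle h4))
    rwa [mul_inv_rev, inv_inv, ← mul_assoc, mul_inv_cancel, one_mul] at this
  have h5 : y ∈ f.ker := hR.ge hyK
  have h6 : (y : G) ∈ Cfsg.pResidualOf p H := ⟨_, (QuotientGroup.eq_one_iff _).1 h5, rfl⟩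
  simpa using mul_mem h6 h4

/-- Class less than `p` makes `P` itself a controller. -/
theorem pResidualOf_eq_of_class_lt (P : Sylow p G) (hcl : (P : Subgroup G).lowerCentralSeries (p - 1) = ⊥) :
    Cfsg.pResidualOf p (normalizer ((P : Subgroup G) : Set G)) =
      Cfsg.pResidual p G ⊓ normalizer ((P : Subgroup G) : Set G) := by
  refine pResidualOf_eq P P ⟨le_rfl, fun g hg => ?_⟩ fun u hu z hz => ?_
  · refine eq_of_le_of_card_ge hg (le_of_eq ?_)
    exact (card_map_conj _ g).symm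
  · have key : ∀ n, (fun y : G => y⁻¹ * z⁻¹ * y * z)^[n] u ∈ (P : Subgroup G).lowerCentralSeries n := by
      intro n
      induction n with
      | zero => exact hu
      | succ n ih =>
        rw [Function.iterate_succ_apply']
        refine (Subgroup.lowerCentralSeries_succ (P : Subgroup G) n).ge ?_
        have := commutator_mem_commutator (inv_mem ih) (inv_mem hz)
        simpa [commutatorElement_def, mul_assoc] using this
    have := key (p - 1)
    rwa [hcl, mem_bot] at this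

end Cfsg.Lib.Transfer.HallWielandt
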