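/-
`p`-nilpotence with metacyclic Sylow `p`-subgroups.
-/
import Cfsg.Agent.Transfer.Frobenius
import Cfsg.Agent.Coprime.Sylow
import Cfsg.Agent.PGroups.Basic
import Cfsg.Agent.Components.Cores
import Cfsg.Prelude.Def_OddOrderLocal
import Cfsg.Prelude.Def_Local

set_option linter.style.haveILetI false
set_option linter.unusedSectionVars false

universe u

namespace Cfsg.Lib.Transfer.MetacyclicSylow

open Subgroup
open scoped commutatorElement

/-- a subgroup of a metacyclic group is generated by two elements -/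
theorem exists_two_gen {R : Type*} [Group R] (hR : Cfsg.IsMetacyclic R) (Q : Subgroup R) :
    ∃ a b : Q, closure ({a, b} : Set Q) = ⊤ := by
  obtain ⟨N, hN, hNc, hRN⟩ := hR
  haveI := hN
  haveI := hNc
  haveI := hRN
  set N' := N.subgroupOf Q
  haveI : IsCyclic (N ⊓ Q : Subgroup R) := Subgroup.isCyclic_of_le (H' := N) inf_le_left
  haveI : IsCyclic N' := by
    refine isCyclic_of_surjective
      ({ toFun := fun x => ⟨⟨x, (Subgroup.mem_inf.1 x.2).2⟩, (Subgroup.mem_inf.1 x.2).1⟩
         map_one' := rfl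
         map_mul' := fun _ _ => rfl } : (N ⊓ Q : Subgroup R) →* N') ?_
    rintro ⟨⟨x, hxQ⟩, hxN⟩
    exact ⟨⟨x, hxN, hxQ⟩, rfl⟩
  obtain ⟨a, ha⟩ := IsCyclic.exists_generator (α := N')
  let f : Q →* R ⧸ N := (QuotientGroup.mk' N).comp Q.subtype
  haveI : IsCyclic f.range := Subgroup.isCyclic f.range
  obtain ⟨⟨_, b, rfl⟩, hb⟩ := IsCyclic.exists_generator (α := f.range)
  refine ⟨a, b, eq_top_iff.2 fun x _ => ?_⟩
  obtain ⟨i, hi⟩ := mem_zpowers_iff.1 (hb ⟨f x, x, rfl⟩)
  have hxb : x * (b ^ i)⁻¹ ∈ N' := by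
    have h1 : f x = f (b ^ i) := by rw [map_zpow]; exact (congrArg Subtype.val hi).symm
    show (x * (b ^ i)⁻¹ : Q).1 ∈ N
    exact (QuotientGroup.eq_one_iff (N := N) _).1 (show f (x * (b ^ i)⁻¹) = 1 by rw [map_mul, map_inv, h1, mul_inv_cancel])
  obtain ⟨j, hj⟩ := mem_zpowers_iff.1 (ha ⟨_, hxb⟩)
  have hx : x = (a : Q) ^ j * b ^ i := by
    have h2 : (a : Q) ^ j = x * (b ^ i)⁻¹ := congrArg Subtype.val hj
    rw [h2, inv_mul_cancel_right]
  rw [hx]
  exact mul_mem (zpow_mem (subset_closure (by simp)) j) (zpow_mem (subset_closure (by simp)) i)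

theorem card_quotient_frattini_le {Q : Type*} [Group Q] [Finite Q] {p : ℕ} [hp : Fact p.Prime] (hQ : IsPGroup p Q)
    {a b : Q} (h : closure ({a, b} : Set Q) = ⊤) : Nat.card (Q ⧸ frattini Q) ≤ p ^ 2 := by
  set m := QuotientGroup.mk' (frattini Q)
  haveI := Cfsg.Lib.PGroups.isMulCommutative_quotient_frattini hQ
  have hpow : ∀ x : Q ⧸ frattini Q, x ^ p = 1 := Cfsg.Lib.PGroups.pow_prime_quotient_frattini hQ
  let s : ZMod p × ZMod p → Q ⧸ frattini Q := fun q => m a ^ q.1.val * m b ^ q.2.val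
  have hs : Function.Surjective s := by
    intro y
    obtain ⟨x, rfl⟩ := QuotientGroup.mk'_surjective _ y
    have hx : x ∈ closure ({a, b} : Set Q) := h ▸ mem_top x
    obtain ⟨i, j, hij⟩ : ∃ i j : ℕ, m x = m a ^ i * m b ^ j := by
      induction hx using closure_induction with
      | mem y hy =>
        rcases hy with rfl | hy
        · exact ⟨1, 0, by simp⟩
        · rw [Set.mem_singleton_iff] at hy
          subst hy
          exact ⟨0, 1, by simp⟩
      | one => exact ⟨0, 0, by simp⟩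
      | mul y z _ _ hy hz =>
        obtain ⟨i, j, hy⟩ := hy
        obtain ⟨k, l, hz⟩ := hz
        refine ⟨i + k, j + l, ?_⟩
        rw [map_mul, hy, hz, pow_add, pow_add]
        have hc : Commute (m b ^ j) (m a ^ k) := Std.Commutative.comm _ _
        rw [mul_assoc, ← mul_assoc (m b ^ j), hc.eq]
        simp [mul_assoc]
      | inv y _ hy =>
        obtain ⟨i, j, hy⟩ := hy
        refine ⟨(p - 1) * i, (p - 1) * j, ?_⟩
        have hinv : ∀ (w : Q ⧸ frattini Q) (k : ℕ), w ^ ((p - 1) * k) = (w ^ k)⁻¹ := by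
          intro w k
          refine eq_inv_of_mul_eq_one_left ?_
          rw [← pow_add, ← Nat.succ_mul, Nat.succ_eq_add_one, Nat.sub_add_cancel hp.out.one_le, pow_mul, hpow, one_pow]
        rw [map_inv, hy, hinv, hinv, mul_inv_rev]
        exact Std.Commutative.comm _ _
    refine ⟨((i : ZMod p), (j : ZMod p)), ?_⟩
    show m a ^ _ * m b ^ _ = m x
    rw [hij, ZMod.val_natCast, ZMod.val_natCast, ← pow_eq_pow_mod _ (hpow _), ← pow_eq_pow_mod _ (hpow _)]
  calc Nat.card (Q ⧸ frattini Q) ≤ Nat.card (ZMod p × ZMod p) := Nat.card_le_card_of_surjective s hs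
    _ = p ^ 2 := by rw [Nat.card_prod, Nat.card_zmod, pow_two]

/-- an automorphism of a group of order at most `p²` whose order is prime to `p (p² - 1)` is trivial -/
theorem auto_trivial {V : Type*} [Group V] [Finite V] {p : ℕ} [hp : Fact p.Prime] (hV : IsPGroup p V)
    (hcard : Nat.card V ≤ p ^ 2) (β : MulAut V) (h1 : (orderOf β).Coprime (p ^ 2 - 1)) (h2 : (orderOf β).Coprime p) :
    β = 1 := by
  by_contra hne
  obtain ⟨r, hr, hrd⟩ := Nat.exists_prime_and_dvd (show orderOf β ≠ 1 by simpa using hne)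
  haveI := Fact.mk hr
  set γ := β ^ (orderOf β / r)
  have hγ : orderOf γ = r := orderOf_pow_orderOf_div (orderOf_pos β).ne' hrd
  let F : Subgroup V :=
    { carrier := {v | γ v = v}
      one_mem' := map_one γ
      mul_mem' := fun {a b} (ha : γ a = a) (hb : γ b = b) => by show γ (a * b) = a * b; rw [map_mul, ha, hb]
      inv_mem' := fun {a} (ha : γ a = a) => by show γ a⁻¹ = a⁻¹; rw [map_inv, ha] }
  have hmod : Nat.card V ≡ Nat.card F [MOD r] := by
    have hG : IsPGroup r (zpowers γ) := IsPGroup.of_card (n := 1) (by rw [Nat.card_zpowers, hγ, pow_one])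
    have h := hG.card_modEq_card_fixedPoints (α := V)
    have e : Nat.card (MulAction.fixedPoints (zpowers γ) V) = Nat.card F := by
      refine Nat.card_congr (Equiv.subtypeEquivRight fun v => ?_)
      refine ⟨fun hv => hv ⟨γ, mem_zpowers γ⟩, fun (hv : γ v = v) g => ?_⟩
      have key : zpowers γ ≤ MulAction.stabilizer (MulAut V) v := zpowers_le.2 hv
      exact key g.2
    rwa [e] at h
  obtain ⟨d, hd⟩ := IsPGroup.iff_card.1 hV
  obtain ⟨i, hi⟩ := IsPGroup.iff_card.1 (hV.to_subgroup F)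
  have hd2 : d ≤ 2 := (Nat.pow_le_pow_iff_right hp.out.one_lt).1 (hd ▸ hcard)
  have hid : i ≤ d := (Nat.pow_le_pow_iff_right hp.out.one_lt).1 (hi ▸ hd ▸ Subgroup.card_le_card_group F)
  have hFtop : F = ⊤ := by
    rcases eq_or_lt_of_le hid with h | h
    · exact Subgroup.eq_top_of_card_eq F (by rw [hi, hd, h])
    · exfalso
      rw [hd, hi] at hmod
      have h3 := (Nat.modEq_iff_dvd' (Nat.pow_le_pow_right hp.out.pos h.le)).1 hmod.symm
      rw [show p ^ d - p ^ i = p ^ i * (p ^ (d - i) - 1) by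
        rw [Nat.mul_sub, mul_one, ← pow_add, Nat.add_sub_cancel' h.le]] at h3
      have hrp : Nat.Coprime r (p ^ i) := Nat.Coprime.pow_right i (h2.coprime_dvd_left hrd)
      have h4 : r ∣ p ^ 2 - 1 := by
        refine (hrp.dvd_of_dvd_mul_left h3).trans ?_
        have : d - i = 1 ∨ d - i = 2 := by omega
        rcases this with e | e <;> rw [e]
        rw [pow_one]
        exact ⟨p + 1, by rw [mul_comm, ← Nat.sq_sub_sq, one_pow]⟩
      exact hr.ne_one (Nat.eq_one_of_dvd_coprimes (h1.coprime_dvd_left hrd) dvd_rfl h4)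
  have : γ = 1 := MulEquiv.ext fun v => (show v ∈ F from hFtop ▸ mem_top v)
  rw [this, orderOf_one] at hγ
  exact hr.ne_one hγ.symm

variable {G : Type u} [Group G] [Finite G] {p : ℕ} [hp : Fact p.Prime]

theorem main (S : Sylow p G) (hS : Cfsg.IsMetacyclic ↥(S : Subgroup G)) :
    Cfsg.HasNormalPComplement p G ↔ Nat.Coprime (Nat.card (G ⧸ Cfsg.pPrimePCore p G)) (p ^ 2 - 1) := by
  constructor
  · intro h
    obtain ⟨T⟩ := (inferInstance : Nonempty (Sylow p G))
    obtain ⟨N, hN, hc⟩ := exists_complement_of_hasNormalPComplement h T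
    haveI := hN
    obtain ⟨hcop, k, hk⟩ := complement_props hc
    have hle : N ≤ Cfsg.pPrimeCore p G := Cfsg.Lib.Components.le_pPrimeCore hcop
    have hq : IsPGroup p (G ⧸ Cfsg.pPrimeCore p G) := by
      have h1 := index_dvd_of_le hle
      rw [hk] at h1
      obtain ⟨i, -, hi⟩ := (Nat.dvd_prime_pow hp.out).1 h1
      exact isPGroup_quotient_of_index _ hi
    have htop : Cfsg.pPrimePCore p G = ⊤ := by
      show (Cfsg.pCore p (G ⧸ Cfsg.pPrimeCore p G)).comap _ = ⊤
      have : Cfsg.pCore p (G ⧸ Cfsg.pPrimeCore p G) = ⊤ :=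
        eq_top_iff.2 (Cfsg.Lib.Components.le_pCore (hq.to_subgroup ⊤))
      rw [this, comap_top]
    have h1 : Nat.card (G ⧸ Cfsg.pPrimePCore p G) = 1 := by
      rw [← Subgroup.index_eq_card, htop, index_top]
    rw [h1]
    exact Nat.coprime_one_left _
  · intro h
    refine hasNormalPComplement_of_frobenius fun Q hQ g hg hgc => ?_
    -- `Q` is generated by two elements
    obtain ⟨T, hT⟩ := hQ.exists_le_sylow
    set Qi := (Q.subgroupOf (T : Subgroup G)).map (T.equiv S).toMonoidHom
    let e : Q ≃* Qi := (subgroupOfEquivOfLe hT).symm.trans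
      ((Q.subgroupOf (T : Subgroup G)).equivMapOfInjective _ (T.equiv S).injective)
    obtain ⟨a, b, hab⟩ := exists_two_gen hS Qi
    have hgen : closure ({e.symm a, e.symm b} : Set Q) = ⊤ := by
      have h1 := congrArg (Subgroup.map e.symm.toMonoidHom) hab
      rw [MonoidHom.map_closure, Set.image_pair, ← MonoidHom.range_eq_map,
        MonoidHom.range_eq_top.2 e.symm.surjective] at h1
      exact h1
    have hV := card_quotient_frattini_le hQ hgen
    -- the automorphism of `Q / Φ(Q)`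
    haveI : (Cfsg.pPrimeCore p G).Normal := Cfsg.Lib.Components.pPrimeCore_normal' p
    haveI hOn : (Cfsg.pPrimePCore p G).Normal :=
      (Cfsg.Lib.Components.pCore_normal' (G := G ⧸ Cfsg.pPrimeCore p G) p).comap _
    set m := orderOf ((g : G) : G ⧸ Cfsg.pPrimePCore p G)
    have hmO : g ^ m ∈ Cfsg.pPrimePCore p G := by
      rw [← QuotientGroup.eq_one_iff, QuotientGroup.mk_pow, pow_orderOf_eq_one]
    have hmP : g ^ m ∈ Cfsg.pPrimeCore p G := by
      rw [← QuotientGroup.eq_one_iff, ← orderOf_eq_one_iff]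
      have h1 : ((g ^ m : G) : G ⧸ Cfsg.pPrimeCore p G) ∈ Cfsg.pCore p (G ⧸ Cfsg.pPrimeCore p G) := hmO
      obtain ⟨k, hk⟩ := IsPGroup.iff_orderOf.1 (Cfsg.Lib.Components.isPGroup_pCore p) ⟨_, h1⟩
      rw [Subgroup.orderOf_mk] at hk
      exact Nat.eq_one_of_dvd_coprimes (Nat.Coprime.pow_right k hgc)
        ((orderOf_map_dvd (QuotientGroup.mk' (Cfsg.pPrimeCore p G)) (g ^ m)).trans (orderOf_pow_dvd m)) hk.dvd
    let c : normalizer (Q : Set G) →* MulAut Q := Q.normalizerMonoidHom
    let r : MulAut Q →* MulAut (Q ⧸ frattini Q) :=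
      { toFun := fun f => QuotientGroup.congr _ _ f
          (characteristic_iff_map_eq.1 (inferInstance : (frattini Q).Characteristic) f)
        map_one' := MulEquiv.ext fun x => by
          obtain ⟨x, rfl⟩ := QuotientGroup.mk_surjective x
          rfl
        map_mul' := fun f f' => MulEquiv.ext fun x => by
          obtain ⟨x, rfl⟩ := QuotientGroup.mk_surjective x
          rfl }
    have hcm : c ⟨g, hg⟩ ^ m = 1 := by
      rw [← map_pow]
      refine MulEquiv.ext fun q => Subtype.ext ?_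
      show g ^ m * (q : G) * (g ^ m)⁻¹ = q
      have hgm : g ^ m ∈ normalizer (Q : Set G) := pow_mem hg m
      have h1 : g ^ m * (q : G) * (g ^ m)⁻¹ * (q : G)⁻¹ ∈ Q :=
        mul_mem ((mem_normalizer_iff.1 hgm _).1 q.2) (inv_mem q.2)
      have h2 : g ^ m * (q : G) * (g ^ m)⁻¹ * (q : G)⁻¹ ∈ Cfsg.pPrimeCore p G := by
        rw [show g ^ m * (q : G) * (g ^ m)⁻¹ * (q : G)⁻¹ = g ^ m * ((q : G) * (g ^ m)⁻¹ * (q : G)⁻¹) by group]
        exact mul_mem hmP ((inferInstance : (Cfsg.pPrimeCore p G).Normal).conj_mem _ (inv_mem hmP) _)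
      obtain ⟨k, hk⟩ := IsPGroup.iff_orderOf.1 hQ ⟨_, h1⟩
      rw [Subgroup.orderOf_mk] at hk
      refine mul_inv_eq_one.1 (orderOf_eq_one_iff.1 (Nat.eq_one_of_dvd_coprimes
        (Nat.Coprime.pow_right k (Cfsg.Lib.Components.coprime_card_pPrimeCore (G := G) p)) ?_ hk.dvd))
      rw [← Subgroup.orderOf_mk _ h2]
      exact _root_.orderOf_dvd_natCard _
    have hβ : r (c ⟨g, hg⟩) = 1 := by
      refine auto_trivial (hQ.to_quotient _) hV _ ?_ ?_
      · refine Nat.Coprime.coprime_dvd_left ?_ (h.coprime_dvd_left (_root_.orderOf_dvd_natCard ((g : G) : G ⧸ Cfsg.pPrimePCore p G)))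
        exact (orderOf_map_dvd r _).trans (orderOf_dvd_of_pow_eq_one hcm)
      · refine hgc.coprime_dvd_left ((orderOf_map_dvd r _).trans ((orderOf_map_dvd c _).trans ?_))
        rw [Subgroup.orderOf_mk]
    have hfix : ∀ k ∈ Q, g * k * g⁻¹ * k⁻¹ ∈ (frattini Q).map Q.subtype := by
      intro k hk
      have h1 := congrArg (fun f : MulAut (Q ⧸ frattini Q) => f ((⟨k, hk⟩ : Q) : Q ⧸ frattini Q)) hβ
      have h2 : ((c ⟨g, hg⟩ ⟨k, hk⟩ : Q) : Q ⧸ frattini Q) = ((⟨k, hk⟩ : Q) : Q ⧸ frattini Q) := h1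
      rw [QuotientGroup.eq_iff_div_mem, div_eq_mul_inv] at h2
      exact ⟨_, h2, rfl⟩
    have hcf : (Nat.card (zpowers g)).Coprime (Nat.card (frattini Q)) := by
      obtain ⟨k, hk⟩ := IsPGroup.iff_card.1 (hQ.to_subgroup (frattini Q))
      rw [hk, Nat.card_zpowers]
      exact Nat.Coprime.pow_right k hgc
    refine Cfsg.Lib.Coprime.le_centralizer_of_frattini (zpowers_le.2 hg) hcf ?_ (mem_zpowers g)
    intro x hx k hk
    have hle : zpowers g ≤ ({ carrier := {y | y ∈ normalizer (Q : Set G) ∧ ∀ k ∈ Q, y * k * y⁻¹ * k⁻¹ ∈ (frattini Q).map Q.subtype}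
                              one_mem' := ⟨one_mem _, fun k _ => by simp⟩
                              mul_mem' := fun {y z} hy hz => ⟨mul_mem hy.1 hz.1, fun k hk => by
                                rw [show y * z * k * (y * z)⁻¹ * k⁻¹ =
                                  (y * (z * k * z⁻¹) * y⁻¹ * (z * k * z⁻¹)⁻¹) * (z * k * z⁻¹ * k⁻¹) by group]
                                exact mul_mem (hy.2 _ ((mem_normalizer_iff.1 hz.1 _).1 hk)) (hz.2 k hk)⟩
                              inv_mem' := fun {y} hy => ⟨inv_mem hy.1, fun k hk => by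
                                have hk' : y⁻¹ * k * y ∈ Q := by
                                  simpa using (mem_normalizer_iff.1 (inv_mem hy.1) k).1 hk
                                have h3 := inv_mem (hy.2 _ hk')
                                convert h3 using 1
                                group⟩ } : Subgroup G) := zpowers_le.2 ⟨hg, hfix⟩
    exact (hle hx).2 k hk

end Cfsg.Lib.Transfer.MetacyclicSylow
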